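import Mathlib
import Groth.Prelude.Def_EtMil
import Groth.Agent.H74.Milnor
import Groth.Agent.H74.MilnorFlat

/-!
Glueing of modules over a Milnor square (`EtMil.IsFibreSquare B' B A' A`): for an (abstract) glued
module `G = N ×_φ M'`, the maps `B ⊗ G → N` and `A' ⊗ G → M'` are bijective.
-/

set_option autoImplicit false
set_option linter.style.haveILetI false
set_option linter.unusedSectionVars false

universe u

open TensorProduct

namespace Groth.Agent.H97.Milnor

section generic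

variable {R S : Type*} [CommRing R] [CommRing S] [Algebra R S]

/-- For a surjective `R → S`, every element of `S ⊗[R] L` is of the form `1 ⊗ l`. -/
theorem exists_one_tmul (hs : Function.Surjective (algebraMap R S))
    {L : Type*} [AddCommGroup L] [Module R L] (w : S ⊗[R] L) :
    ∃ l : L, (1 : S) ⊗ₜ[R] l = w := by
  induction w using TensorProduct.induction_on with
  | zero => exact ⟨0, TensorProduct.tmul_zero _ _⟩
  | tmul s l =>
    obtain ⟨r, rfl⟩ := hs s
    refine ⟨r • l, ?_⟩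
    rw [TensorProduct.tmul_smul, TensorProduct.smul_tmul', Algebra.smul_def, mul_one]
  | add x y hx hy =>
    obtain ⟨a, rfl⟩ := hx
    obtain ⟨b, rfl⟩ := hy
    exact ⟨a + b, TensorProduct.tmul_add _ _ _⟩

/-- For a surjective `R → S` with kernel `I`, if `1 ⊗ l = 0` in `S ⊗[R] L` then `l ∈ I L`. -/
theorem mem_ker_smul_top (hs : Function.Surjective (algebraMap R S))
    {L : Type*} [AddCommGroup L] [Module R L] (l : L)
    (h1 : ((1 : S) ⊗ₜ[R] l : S ⊗[R] L) = 0) :
    l ∈ (RingHom.ker (algebraMap R S)) • (⊤ : Submodule R L) := by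
  set N : Submodule R L := (RingHom.ker (algebraMap R S)) • (⊤ : Submodule R L) with hN
  have hsurj : Function.Surjective (Algebra.linearMap R S) := hs
  let θ : R →ₗ[R] (L →ₗ[R] (L ⧸ N)) := LinearMap.toSpanSingleton R _ N.mkQ
  have hθ : LinearMap.ker (Algebra.linearMap R S) ≤ LinearMap.ker θ := by
    intro j hj
    rw [LinearMap.mem_ker] at hj ⊢
    ext x
    simp only [θ, LinearMap.toSpanSingleton_apply, LinearMap.smul_apply, Submodule.mkQ_apply,
      LinearMap.zero_apply]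
    rw [← Submodule.Quotient.mk_smul, Submodule.Quotient.mk_eq_zero]
    exact Submodule.smul_mem_smul (by simpa [RingHom.mem_ker] using hj) Submodule.mem_top
  let f : S →ₗ[R] (L →ₗ[R] (L ⧸ N)) :=
    (Submodule.liftQ _ θ hθ).comp
      ((Algebra.linearMap R S).quotKerEquivOfSurjective hsurj).symm.toLinearMap
  have hf1 : f 1 = N.mkQ := by
    have h1' : (1 : S) = Algebra.linearMap R S 1 := by simp
    show (Submodule.liftQ _ θ hθ)
      (((Algebra.linearMap R S).quotKerEquivOfSurjective hsurj).symm 1) = _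
    rw [h1', LinearMap.quotKerEquivOfSurjective_symm_apply, Submodule.liftQ_apply]
    simp [θ]
  let ψ : S ⊗[R] L →ₗ[R] (L ⧸ N) := TensorProduct.lift f
  have : ψ ((1 : S) ⊗ₜ[R] l) = N.mkQ l := by
    simp only [ψ, TensorProduct.lift.tmul, hf1]
  rw [h1, map_zero] at this
  exact (Submodule.Quotient.mk_eq_zero N).mp this.symm

end generic

section main

variable {B' B A' A : Type u} [CommRing B'] [CommRing B] [CommRing A'] [CommRing A]
  [Algebra B' B] [Algebra B' A'] [Algebra B A] [Algebra A' A] [Algebra B' A]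
  [IsScalarTower B' B A] [IsScalarTower B' A' A]
  {N M' : Type u} [AddCommGroup N] [Module B N] [Module B' N] [IsScalarTower B' B N]
  [AddCommGroup M'] [Module A' M'] [Module B' M'] [IsScalarTower B' A' M']
  {G : Type*} [AddCommGroup G] [Module B' G]

/-- `G` with its two projections is (a model of) the glued module `N ×_φ M'`. -/
structure IsGlue (φ : A ⊗[B] N ≃ₗ[A] A ⊗[A'] M') (p₁ : G →ₗ[B'] N) (p₂ : G →ₗ[B'] M') :
    Prop where
  inj : ∀ g : G, p₁ g = 0 → p₂ g = 0 → g = 0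
  img : ∀ (n : N) (m' : M'),
    φ ((1 : A) ⊗ₜ[B] n) = (1 : A) ⊗ₜ[A'] m' ↔ ∃ g : G, p₁ g = n ∧ p₂ g = m'

/-- The concrete glued module is a glued module. -/
theorem isGlue_glue (φ : A ⊗[B] N ≃ₗ[A] A ⊗[A'] M') :
    IsGlue φ (EtMil.glueFst B' φ) (EtMil.glueSnd B' φ) where
  inj g h1 h2 := Subtype.ext (Prod.ext h1 h2)
  img n m' := ⟨fun hh => ⟨⟨(n, m'), hh⟩, rfl, rfl⟩, by rintro ⟨g, rfl, rfl⟩; exact g.2⟩

lemma fst_smul_eq_zero (p₁ : G →ₗ[B'] N) (j : B') (hj : algebraMap B' B j = 0) (g : G) :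
    p₁ (j • g) = 0 := by
  rw [map_smul, ← IsScalarTower.algebraMap_smul B j (p₁ g), hj, zero_smul]

lemma snd_smul_eq (p₂ : G →ₗ[B'] M') (j : B') (g : G) :
    p₂ (j • g) = algebraMap B' A' j • p₂ g := by
  rw [map_smul, IsScalarTower.algebraMap_smul]

variable {φ : A ⊗[B] N ≃ₗ[A] A ⊗[A'] M'} {p₁ : G →ₗ[B'] N} {p₂ : G →ₗ[B'] M'}

lemma IsGlue.compat (h : IsGlue φ p₁ p₂) (g : G) :
    φ ((1 : A) ⊗ₜ[B] p₁ g) = (1 : A) ⊗ₜ[A'] p₂ g :=
  (h.img _ _).2 ⟨g, rfl, rfl⟩

lemma IsGlue.exists_snd (h : IsGlue φ p₁ p₂) (k : M') (hk : (1 : A) ⊗ₜ[A'] k = 0) :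
    ∃ g : G, p₁ g = 0 ∧ p₂ g = k :=
  (h.img 0 k).1 (by rw [TensorProduct.tmul_zero, map_zero, hk])

lemma IsGlue.exists_fst (hsq : EtMil.IsFibreSquare B' B A' A) (h : IsGlue φ p₁ p₂) (n : N) :
    ∃ g : G, p₁ g = n := by
  obtain ⟨m', hm'⟩ := exists_one_tmul hsq.1 (φ ((1 : A) ⊗ₜ[B] n))
  obtain ⟨g, hg, -⟩ := (h.img n m').1 hm'.symm
  exact ⟨g, hg⟩

/-- `A' ⊗ G → M'` is surjective. -/
theorem IsGlue.snd_surjective (hsq : EtMil.IsFibreSquare B' B A' A) (h : IsGlue φ p₁ p₂) :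
    Function.Surjective (LinearMap.liftBaseChange A' p₂) := by
  have key : ∀ w : A ⊗[B] N, ∃ x : A' ⊗[B'] G,
      (1 : A) ⊗ₜ[A'] (LinearMap.liftBaseChange A' p₂ x) = φ w := by
    intro w
    induction w using TensorProduct.induction_on with
    | zero => exact ⟨0, by rw [map_zero, map_zero, TensorProduct.tmul_zero]⟩
    | tmul a n =>
      obtain ⟨a', rfl⟩ := hsq.1 a
      obtain ⟨g, rfl⟩ := h.exists_fst hsq n
      refine ⟨a' ⊗ₜ g, ?_⟩
      have h1 : (algebraMap A' A a') ⊗ₜ[B] p₁ g =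
          (algebraMap A' A a') • ((1 : A) ⊗ₜ[B] p₁ g) := by
        rw [TensorProduct.smul_tmul', smul_eq_mul, mul_one]
      rw [LinearMap.liftBaseChange_tmul, TensorProduct.tmul_smul, TensorProduct.smul_tmul',
        Algebra.smul_def, mul_one, h1, map_smul, h.compat, TensorProduct.smul_tmul',
        smul_eq_mul, mul_one]
    | add x y hx hy =>
      obtain ⟨a, ha⟩ := hx
      obtain ⟨b, hb⟩ := hy
      exact ⟨a + b, by rw [map_add, TensorProduct.tmul_add, ha, hb, map_add]⟩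
  intro m'
  obtain ⟨x, hx⟩ := key (φ.symm ((1 : A) ⊗ₜ[A'] m'))
  rw [LinearEquiv.apply_symm_apply] at hx
  have hk : (1 : A) ⊗ₜ[A'] (m' - LinearMap.liftBaseChange A' p₂ x) = 0 := by
    rw [TensorProduct.tmul_sub, hx, sub_self]
  obtain ⟨g, -, hg⟩ := h.exists_snd _ hk
  refine ⟨x + (1 : A') ⊗ₜ g, ?_⟩
  rw [map_add, LinearMap.liftBaseChange_tmul, one_smul, hg]
  abel

/-- For `i ∈ ker (A' → A)`, the element `(0, i m')` lies in `ker (B' → B) • G`. -/
theorem IsGlue.exists_ker_smul (hsq : EtMil.IsFibreSquare B' B A' A) (h : IsGlue φ p₁ p₂)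
    (i : A') (hi : algebraMap A' A i = 0) (m' : M') :
    ∃ g : G, p₁ g = 0 ∧ p₂ g = i • m' ∧ (1 : B) ⊗ₜ[B'] g = 0 := by
  have key : ∀ x : A' ⊗[B'] G, ∀ i : A', algebraMap A' A i = 0 →
      ∃ g : G, p₁ g = 0 ∧ p₂ g = i • LinearMap.liftBaseChange A' p₂ x ∧
        (1 : B) ⊗ₜ[B'] g = 0 := by
    intro x
    induction x using TensorProduct.induction_on with
    | zero =>
      intro i _
      exact ⟨0, map_zero _, by rw [map_zero, map_zero, smul_zero], TensorProduct.tmul_zero _ _⟩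
    | tmul a' g₀ =>
      intro i hi
      obtain ⟨j, hj1, hj2⟩ := Groth.Agent.H74.Milnor.exists_of_mem_ker hsq (i * a')
        (by rw [map_mul, hi, zero_mul])
      refine ⟨j • g₀, fst_smul_eq_zero p₁ j hj1 g₀, ?_, ?_⟩
      · rw [snd_smul_eq (A' := A') p₂ j g₀, hj2, LinearMap.liftBaseChange_tmul, mul_smul]
      · rw [TensorProduct.tmul_smul, TensorProduct.smul_tmul', Algebra.smul_def, hj1, zero_mul,
          TensorProduct.zero_tmul]
    | add x y hx hy =>
      intro i hi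
      obtain ⟨gx, hx1, hx2, hx3⟩ := hx i hi
      obtain ⟨gy, hy1, hy2, hy3⟩ := hy i hi
      exact ⟨gx + gy, by rw [map_add, hx1, hy1, add_zero],
        by rw [map_add, hx2, hy2, map_add, smul_add],
        by rw [TensorProduct.tmul_add, hx3, hy3, add_zero]⟩
  obtain ⟨x, rfl⟩ := h.snd_surjective hsq m'
  exact key x i hi

/-- `B ⊗ G → N` is bijective. -/
theorem IsGlue.fst_bijective (hsq : EtMil.IsFibreSquare B' B A' A) (h : IsGlue φ p₁ p₂) :
    Function.Bijective (LinearMap.liftBaseChange B p₁) := by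
  constructor
  · rw [injective_iff_map_eq_zero]
    intro x hx
    obtain ⟨g, rfl⟩ := exists_one_tmul (Groth.Agent.H74.Milnor.surj hsq) x
    rw [LinearMap.liftBaseChange_tmul, one_smul] at hx
    have hg2 : (1 : A) ⊗ₜ[A'] p₂ g = 0 := by
      rw [← h.compat, hx, TensorProduct.tmul_zero, map_zero]
    have hmem := mem_ker_smul_top hsq.1 (p₂ g) hg2
    have key : ∀ m ∈ RingHom.ker (algebraMap A' A) • (⊤ : Submodule A' M'),
        ∃ g' : G, p₁ g' = 0 ∧ p₂ g' = m ∧ (1 : B) ⊗ₜ[B'] g' = 0 := by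
      intro m hm
      refine Submodule.smul_induction_on hm
        (fun i hi m _ => h.exists_ker_smul hsq i (RingHom.mem_ker.mp hi) m) ?_
      rintro x y ⟨gx, hx1, hx2, hx3⟩ ⟨gy, hy1, hy2, hy3⟩
      exact ⟨gx + gy, by rw [map_add, hx1, hy1, add_zero], by rw [map_add, hx2, hy2],
        by rw [TensorProduct.tmul_add, hx3, hy3, add_zero]⟩
    obtain ⟨g', h1, h2, h3⟩ := key _ hmem
    have hgg : g = g' := by
      have := h.inj (g - g') (by rw [map_sub, hx, h1, sub_zero]) (by rw [map_sub, h2, sub_self])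
      exact sub_eq_zero.mp this
    rw [hgg, h3]
  · intro n
    obtain ⟨g, rfl⟩ := h.exists_fst hsq n
    exact ⟨(1 : B) ⊗ₜ g, by rw [LinearMap.liftBaseChange_tmul, one_smul]⟩

/-- `A' ⊗ G → M'` is bijective. -/
theorem IsGlue.snd_bijective (hsq : EtMil.IsFibreSquare B' B A' A) (h : IsGlue φ p₁ p₂) :
    Function.Bijective (LinearMap.liftBaseChange A' p₂) := by
  refine ⟨?_, h.snd_surjective hsq⟩
  rw [injective_iff_map_eq_zero]
  intro x hx
  have hb1 := h.fst_bijective hsq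
  let e₁ : A ⊗[B] (B ⊗[B'] G) ≃ₗ[A] A ⊗[B'] G := AlgebraTensorModule.cancelBaseChange B' B A A G
  let e₃ : A ⊗[A'] (A' ⊗[B'] G) ≃ₗ[A] A ⊗[B'] G :=
    AlgebraTensorModule.cancelBaseChange B' A' A A G
  have key : ∀ z : A ⊗[B] (B ⊗[B'] G),
      ((LinearMap.liftBaseChange A' p₂).baseChange A) (e₃.symm (e₁ z)) =
        φ (((LinearMap.liftBaseChange B p₁).baseChange A) z) := by
    intro z
    induction z using TensorProduct.induction_on with
    | zero => simp only [map_zero]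
    | add x y hx hy => simp only [map_add, hx, hy]
    | tmul a w =>
      induction w using TensorProduct.induction_on with
      | zero => simp only [TensorProduct.tmul_zero, map_zero]
      | add x y hx hy => simp only [TensorProduct.tmul_add, map_add, hx, hy]
      | tmul b g =>
        have h1 : a ⊗ₜ[B] (b • p₁ g) = (b • a) • ((1 : A) ⊗ₜ[B] p₁ g) := by
          rw [TensorProduct.smul_tmul', smul_eq_mul, mul_one, TensorProduct.smul_tmul]
        have h2 : (b • a) ⊗ₜ[A'] p₂ g = (b • a) • ((1 : A) ⊗ₜ[A'] p₂ g) := by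
          rw [TensorProduct.smul_tmul', smul_eq_mul, mul_one]
        show ((LinearMap.liftBaseChange A' p₂).baseChange A)
            ((b • a) ⊗ₜ[A'] ((1 : A') ⊗ₜ[B'] g)) = φ (a ⊗ₜ[B] (b • p₁ g))
        rw [LinearMap.baseChange_tmul, LinearMap.liftBaseChange_tmul, one_smul, h1, map_smul,
          h.compat, h2]
  have hinj1 : Function.Injective ((LinearMap.liftBaseChange B p₁).baseChange A) := by
    let E := LinearEquiv.ofBijective (LinearMap.liftBaseChange B p₁) hb1
    have hcomp : (E.symm.toLinearMap.baseChange A) ∘ₗ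
        ((LinearMap.liftBaseChange B p₁).baseChange A) = LinearMap.id := by
      rw [← LinearMap.baseChange_comp]
      have : E.symm.toLinearMap ∘ₗ (LinearMap.liftBaseChange B p₁) = LinearMap.id :=
        LinearMap.ext fun z => E.symm_apply_apply z
      rw [this, LinearMap.baseChange_id]
    exact Function.LeftInverse.injective (g := E.symm.toLinearMap.baseChange A)
      (fun z => LinearMap.congr_fun hcomp z)
  have ht : (1 : A) ⊗ₜ[A'] x = 0 := by
    have h0 : ((LinearMap.liftBaseChange A' p₂).baseChange A) ((1 : A) ⊗ₜ[A'] x) = 0 := by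
      rw [LinearMap.baseChange_tmul, hx, TensorProduct.tmul_zero]
    have h1 := key (e₁.symm (e₃ ((1 : A) ⊗ₜ[A'] x)))
    rw [LinearEquiv.apply_symm_apply, LinearEquiv.symm_apply_apply, h0] at h1
    have h2 : ((LinearMap.liftBaseChange B p₁).baseChange A)
        (e₁.symm (e₃ ((1 : A) ⊗ₜ[A'] x))) = 0 := φ.injective (by rw [← h1, map_zero])
    have h3 : e₁.symm (e₃ ((1 : A) ⊗ₜ[A'] x)) = 0 := hinj1 (by rw [h2, map_zero])
    have h4 : e₃ ((1 : A) ⊗ₜ[A'] x) = 0 := by
      have := congrArg e₁ h3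
      rwa [LinearEquiv.apply_symm_apply, map_zero] at this
    exact e₃.injective (by rw [h4, map_zero])
  have hmem := mem_ker_smul_top hsq.1 x ht
  have aux : ∀ t : A' ⊗[B'] G, ∀ i : A', algebraMap A' A i = 0 →
      ∃ g₀ : G, p₁ g₀ = 0 ∧ i • t = (1 : A') ⊗ₜ[B'] g₀ := by
    intro t
    induction t using TensorProduct.induction_on with
    | zero =>
      intro i _
      exact ⟨0, map_zero _, by rw [smul_zero, TensorProduct.tmul_zero]⟩
    | tmul a' g =>
      intro i hi
      obtain ⟨j, hj1, hj2⟩ := Groth.Agent.H74.Milnor.exists_of_mem_ker hsq (i * a')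
        (by rw [map_mul, hi, zero_mul])
      refine ⟨j • g, fst_smul_eq_zero p₁ j hj1 g, ?_⟩
      rw [TensorProduct.smul_tmul', smul_eq_mul, TensorProduct.tmul_smul,
        TensorProduct.smul_tmul', Algebra.smul_def, hj2, mul_one]
    | add x y hx hy =>
      intro i hi
      obtain ⟨gx, hx1, hx2⟩ := hx i hi
      obtain ⟨gy, hy1, hy2⟩ := hy i hi
      exact ⟨gx + gy, by rw [map_add, hx1, hy1, add_zero],
        by rw [smul_add, hx2, hy2, TensorProduct.tmul_add]⟩
  have key3 : ∀ y ∈ RingHom.ker (algebraMap A' A) • (⊤ : Submodule A' (A' ⊗[B'] G)),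
      ∃ g₀ : G, p₁ g₀ = 0 ∧ y = (1 : A') ⊗ₜ[B'] g₀ := by
    intro y hy
    refine Submodule.smul_induction_on hy
      (fun i hi t _ => aux t i (RingHom.mem_ker.mp hi)) ?_
    rintro x y ⟨gx, hx1, hx2⟩ ⟨gy, hy1, hy2⟩
    exact ⟨gx + gy, by rw [map_add, hx1, hy1, add_zero],
      by rw [hx2, hy2, TensorProduct.tmul_add]⟩
  obtain ⟨g₀, hg1, rfl⟩ := key3 x hmem
  rw [LinearMap.liftBaseChange_tmul, one_smul] at hx
  rw [h.inj g₀ hg1 hx, TensorProduct.tmul_zero]

/-- The `B`-linear equivalence `B ⊗ G ≃ N`. -/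
noncomputable def IsGlue.fstEquiv (hsq : EtMil.IsFibreSquare B' B A' A) (h : IsGlue φ p₁ p₂) :
    B ⊗[B'] G ≃ₗ[B] N :=
  LinearEquiv.ofBijective (LinearMap.liftBaseChange B p₁) (h.fst_bijective hsq)

/-- The `A'`-linear equivalence `A' ⊗ G ≃ M'`. -/
noncomputable def IsGlue.sndEquiv (hsq : EtMil.IsFibreSquare B' B A' A) (h : IsGlue φ p₁ p₂) :
    A' ⊗[B'] G ≃ₗ[A'] M' :=
  LinearEquiv.ofBijective (LinearMap.liftBaseChange A' p₂) (h.snd_bijective hsq)

end main

end Groth.Agent.H97.Milnor
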