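import Mathlib
import Groth.Agent.H54.RegInter
import Groth.Agent.H69.DimAffSpaceC

/-!
# helper97: (DS) for helper74's S14484 squad — dimension does not increase under a surjection of
locally closed subsets of schemes locally of finite type over a field (pointwise via `tdeg`).
-/

set_option autoImplicit false
universe u
open CategoryTheory CategoryTheory.Limits AlgebraicGeometry

namespace Groth.Agent.H97.WI_DS

open Groth.Agent.H54 Groth.Agent.H69.DimAffSpace

theorem quasiSober_of_isLocallyClosed {T : Type*} [TopologicalSpace T] [QuasiSober T] {B : Set T}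
    (hB : IsLocallyClosed B) : QuasiSober ↥B := by
  have : QuasiSober ↥(closure B) := isClosed_closure.isClosedEmbedding_subtypeVal.quasiSober
  have hemb : Topology.IsOpenEmbedding (Set.inclusion (subset_closure : B ⊆ closure B)) :=
    ⟨Topology.IsEmbedding.inclusion subset_closure, by
      rw [Set.range_inclusion]
      exact hB.isOpen_preimage_val_closure⟩
  exact hemb.quasiSober

/-- copy of `Groth.Agent.S4702.topologicalKrullDim_subset_le_of_forall_tdeg_le` (light imports). -/
theorem topologicalKrullDim_subset_le_of_forall_tdeg_le {k : Type u} [Field k] {X : Scheme.{u}}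
    (s : X ⟶ Spec (CommRingCat.of k)) [LocallyOfFiniteType s] (T : Set X) [QuasiSober T] (n : ℕ)
    (h : ∀ x : X, x ∈ T → tdeg s x ≤ n) : topologicalKrullDim T ≤ n := by
  classical
  let g : TopologicalSpace.IrreducibleCloseds T → ℕ :=
    fun Z => tdeg s (Z.isIrreducible.genericPoint).1
  have hgen : ∀ Z : TopologicalSpace.IrreducibleCloseds T,
      closure ({Z.isIrreducible.genericPoint} : Set T) = (Z : Set T) :=
    fun Z => Z.isIrreducible.closure_genericPoint Z.isClosed
  have hg : StrictMono g := by
    intro Z Z' hlt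
    have hsub : (Z : Set T) ⊆ (Z' : Set T) := hlt.le
    have hmem : Z.isIrreducible.genericPoint ∈ (Z' : Set T) :=
      hsub ((hgen Z).subset (subset_closure rfl))
    have hsp : Z'.isIrreducible.genericPoint ⤳ Z.isIrreducible.genericPoint :=
      specializes_iff_mem_closure.mpr ((hgen Z').symm.subset hmem)
    have hne : Z'.isIrreducible.genericPoint ≠ Z.isIrreducible.genericPoint := by
      intro heq
      apply hlt.ne
      apply TopologicalSpace.IrreducibleCloseds.ext
      exact (hgen Z).symm.trans
        ((congrArg (fun y => closure ({y} : Set T)) heq.symm).trans (hgen Z'))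
    exact tdeg_lt_of_specializes s (hsp.map continuous_subtype_val)
      (fun h => hne (Subtype.ext h))
  unfold topologicalKrullDim
  rw [Order.krullDim]
  apply iSup_le
  intro p
  have h1 := LTSeries.head_add_length_le_nat (p.map g hg)
  have h2 : g p.last ≤ n :=
    h (p.last.isIrreducible.genericPoint).1 (p.last.isIrreducible.genericPoint).2
  rw [LTSeries.last_map] at h1
  have h3 : p.length ≤ n := by
    have : (p.map g hg).length = p.length := rfl
    omega
  exact_mod_cast h3

variable (k : Type u) [Field k]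

/-- (DS) -/
theorem dim_le_of_image_eq {W W' : Scheme.{u}} (p : W ⟶ Spec (CommRingCat.of k))
    (p' : W' ⟶ Spec (CommRingCat.of k)) [LocallyOfFiniteType p] [LocallyOfFiniteType p']
    (g : W ⟶ W') (hg : g ≫ p' = p) (A : Set W) (hA : IsLocallyClosed A) (B : Set W')
    (hB : IsLocallyClosed B) (hAB : g.base '' A = B) :
    topologicalKrullDim ↥B ≤ topologicalKrullDim ↥A := by
  have hlow : ∀ a ∈ A, (tdeg p a : WithBot ℕ∞) ≤ topologicalKrullDim ↥A := by
    intro a ha
    obtain ⟨U₀, Z₀, hU₀, hZ₀, rfl⟩ := hA
    refine tdeg_le_dim_of_embedding p (Subtype.val : ↥(U₀ ∩ Z₀) → W)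
      Topology.IsInducing.subtypeVal ⟨a, ha⟩ ⟨U₀, hU₀⟩ ha.1 ?_
    rintro y ⟨hy1, hy2⟩
    have hyZ : y ∈ Z₀ := (closure_minimal (Set.singleton_subset_iff.mpr ha.2) hZ₀) hy1
    exact ⟨⟨y, hy2, hyZ⟩, rfl⟩
  rcases withBotENat_cases (topologicalKrullDim ↥A) with h | h | ⟨m, h⟩
  · have hemp : IsEmpty ↥A := isEmpty_of_topologicalKrullDim_eq_bot h
    have : IsEmpty ↥B := ⟨fun b => by
      obtain ⟨a, ha, -⟩ := hAB.symm.subset b.2
      exact hemp.false ⟨a, ha⟩⟩
    rw [topologicalKrullDim_eq_bot_of_isEmpty]
    exact bot_le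
  · exact le_of_le_of_eq le_top h.symm
  · refine le_of_le_of_eq ?_ h.symm
    have : QuasiSober ↥B := quasiSober_of_isLocallyClosed hB
    apply topologicalKrullDim_subset_le_of_forall_tdeg_le p' B m
    intro b hb
    obtain ⟨a, ha, rfl⟩ := hAB.symm.subset hb
    have h1 : tdeg p' (g a) ≤ tdeg p a := tdeg_le_of_hom p' p g hg a
    have h2 : (tdeg p a : WithBot ℕ∞) ≤ m := (hlow a ha).trans h.le
    have h3 : tdeg p a ≤ m := by exact_mod_cast h2
    exact h1.trans h3

end Groth.Agent.H97.WI_DS
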