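import Mathlib

/-!
# helper97: (G6) for helper17's S3362 squad — connectedness in dimension `k` of the punctured
space gives the dimension bound `k + 1` for disconnecting closed subsets of the whole space.
-/

set_option autoImplicit false
universe u

namespace Groth.Agent.H97.PS_G6

theorem dim_of_isEmpty (X : Type u) [TopologicalSpace X] [IsEmpty X] :
    topologicalKrullDim X = ⊥ := by
  have : IsEmpty (TopologicalSpace.IrreducibleCloseds X) :=
    ⟨fun W => by
      obtain ⟨x, -⟩ := W.isIrreducible'.1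
      exact isEmptyElim x⟩
  exact Order.krullDim_eq_bot

theorem lt_of_add_one_lt (a : WithBot ℕ∞) (k : ℕ)
    (h : a + 1 < ((k + 1 : ℕ) : WithBot ℕ∞)) : a < (k : WithBot ℕ∞) := by
  induction a using WithBot.recBotCoe with
  | bot => exact WithBot.bot_lt_coe _
  | coe x =>
    induction x using ENat.recTopCoe with
    | top =>
      exfalso
      have h' : ((⊤ : ℕ∞) : WithBot ℕ∞) + 1 = ((⊤ : ℕ∞) : WithBot ℕ∞) := by
        rw [← WithBot.coe_one, ← WithBot.coe_add, top_add]
      rw [h'] at h
      have : ((⊤ : ℕ∞) : WithBot ℕ∞) < (((k + 1 : ℕ) : ℕ∞) : WithBot ℕ∞) := h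
      rw [WithBot.coe_lt_coe] at this
      exact not_top_lt this
    | coe n =>
      have h1 : (((n + 1 : ℕ) : ℕ∞) : WithBot ℕ∞) < (((k + 1 : ℕ) : ℕ∞) : WithBot ℕ∞) := by
        have : (((n : ℕ) : ℕ∞) : WithBot ℕ∞) + 1 = (((n + 1 : ℕ) : ℕ∞) : WithBot ℕ∞) := by
          push_cast
          rfl
        rw [← this]
        exact h
      rw [WithBot.coe_lt_coe, Nat.cast_lt] at h1
      have h2 : n < k := by omega
      have : (((n : ℕ) : ℕ∞) : WithBot ℕ∞) < (((k : ℕ) : ℕ∞) : WithBot ℕ∞) := by
        rw [WithBot.coe_lt_coe, Nat.cast_lt]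
        exact h2
      exact this

/-- (G6) -/
theorem le_dim_of_connectedInDim {U T : Type u} [TopologicalSpace U] [TopologicalSpace T]
    (ι : U → T) (hι : Topology.IsOpenEmbedding ι) (pt : T) (hpt : Set.range ι = {pt}ᶜ)
    (hloc : ∀ C : Set T, IsClosed C → C.Nonempty → pt ∈ C) (k : ℕ)
    (hb : ∀ Z : Set U, IsClosed Z → topologicalKrullDim ↥Z < (k : WithBot ℕ∞) → IsConnected Zᶜ)
    (hG2 : ∀ Z : Set U, IsClosed Z → Z.Nonempty →
      topologicalKrullDim ↥Z + 1 ≤ topologicalKrullDim ↥(ι '' Z ∪ {pt}))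
    (Z' : Set T) (hZ' : IsClosed Z') (hnc : ¬ IsConnected Z'ᶜ) :
    ((k + 1 : ℕ) : WithBot ℕ∞) ≤ topologicalKrullDim ↥Z' := by
  by_contra hlt
  rw [not_le] at hlt
  apply hnc
  have hempty : topologicalKrullDim ↥(∅ : Set U) < (k : WithBot ℕ∞) := by
    rw [dim_of_isEmpty]
    exact WithBot.bot_lt_coe _
  rcases Set.eq_empty_or_nonempty Z' with rfl | hne
  · -- `Z' = ∅`
    have hU : IsConnected ((∅ : Set U)ᶜ) := hb ∅ isClosed_empty hempty
    rw [Set.compl_empty] at hU ⊢
    have hr : IsConnected (Set.range ι) := by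
      rw [← Set.image_univ]
      exact hU.image ι hι.continuous.continuousOn
    have hcl : closure (Set.range ι) = Set.univ := by
      have hptc : pt ∈ closure (Set.range ι) :=
        hloc _ isClosed_closure (hr.nonempty.mono subset_closure)
      apply Set.eq_univ_of_forall
      intro x
      by_cases hx : x = pt
      · rw [hx]; exact hptc
      · apply subset_closure
        rw [hpt]
        exact hx
    rw [← hcl]
    exact hr.closure
  · -- `Z'` nonempty
    have hptZ : pt ∈ Z' := hloc Z' hZ' hne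
    have hZc : IsClosed (ι ⁻¹' Z') := hZ'.preimage hι.continuous
    have hset : ι '' (ι ⁻¹' Z') ∪ {pt} = Z' := by
      rw [Set.image_preimage_eq_inter_range, hpt]
      ext x
      simp only [Set.mem_union, Set.mem_inter_iff, Set.mem_compl_iff, Set.mem_singleton_iff]
      constructor
      · rintro (⟨hx, -⟩ | rfl)
        · exact hx
        · exact hptZ
      · intro hx
        by_cases hxp : x = pt
        · exact Or.inr hxp
        · exact Or.inl ⟨hx, hxp⟩
    have hcompl : ι '' (ι ⁻¹' Z')ᶜ = Z'ᶜ := by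
      rw [← Set.preimage_compl, Set.image_preimage_eq_inter_range, hpt]
      ext x
      simp only [Set.mem_inter_iff, Set.mem_compl_iff, Set.mem_singleton_iff]
      constructor
      · rintro ⟨hx, -⟩
        exact hx
      · intro hx
        exact ⟨hx, fun hxp => hx (hxp ▸ hptZ)⟩
    have hdim : topologicalKrullDim ↥(ι ⁻¹' Z') < (k : WithBot ℕ∞) := by
      rcases Set.eq_empty_or_nonempty (ι ⁻¹' Z') with he | hne'
      · rw [he]
        exact hempty
      · have h1 := hG2 (ι ⁻¹' Z') hZc hne'
        rw [hset] at h1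
        exact lt_of_add_one_lt _ k (lt_of_le_of_lt h1 hlt)
    have hconn := hb (ι ⁻¹' Z') hZc hdim
    rw [← hcompl]
    exact hconn.image ι hι.continuous.continuousOn

end Groth.Agent.H97.PS_G6
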