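import Mathlib
import Groth.Prelude.Def_CohB1
import Groth.Agent.H22.FPExt.Defs

/-!
# helper97: (P3) + (P4) + (P6) for helper22's S2115 squad.
-/

set_option autoImplicit false
universe u
open CategoryTheory CategoryTheory.Limits AlgebraicGeometry TopologicalSpace Opposite
open AlgebraicGeometry.Scheme.Modules
open Groth.Agent.H22.FPExt

namespace Groth.Agent.H97.FPExt_P3

variable {X : Scheme.{u}}

/-- (P3) -/
theorem isIso_restrict_iff_bijOn {A B : X.Modules} (ψ : A ⟶ B) (W : X.Opens) :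
    IsIso ((restrictFunctor W.ι).map ψ) ↔ BijOn ψ W := by
  rw [Hom.isIso_iff_isIso_app]
  constructor
  · intro h O hO
    have e : W.ι ''ᵁ (W.ι ⁻¹ᵁ O) = O := by
      rw [Scheme.Hom.image_preimage_eq_opensRange_inf, Scheme.Opens.opensRange_ι]
      exact inf_eq_right.mpr hO
    have h2 : IsIso (ψ.app (W.ι ''ᵁ (W.ι ⁻¹ᵁ O))) := h (W.ι ⁻¹ᵁ O)
    rw [e] at h2
    exact (ConcreteCategory.isIso_iff_bijective _).mp h2
  · intro h O'
    have h1 := h (W.ι ''ᵁ O') (Scheme.Opens.ι_image_le W O')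
    show IsIso (ψ.app (W.ι ''ᵁ O'))
    exact (ConcreteCategory.isIso_iff_bijective _).mpr h1

/-- (P4) -/
theorem isIso_restrict_pushforward_of_bijOn {Y : Scheme.{u}} (j : Y ⟶ X) [IsOpenImmersion j]
    (W : X.Opens) {A B : Y.Modules} (φ : A ⟶ B) (h : BijOn φ (j ⁻¹ᵁ W)) :
    IsIso ((restrictFunctor W.ι).map ((pushforward j).map φ)) := by
  rw [isIso_restrict_iff_bijOn]
  intro O hO
  show Function.Bijective (φ.app (j ⁻¹ᵁ O))
  exact h _ (fun x hx => hO hx)

/-- (P6) -/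
theorem fpOn_of_bijOn {A B : X.Modules} (ψ : A ⟶ B) (W : X.Opens) (hψ : BijOn ψ W)
    (hB : FPOn B W) : FPOn A W := by
  intro x hx
  obtain ⟨O, hO, hxO, hOW, hfp⟩ := hB x hx
  refine ⟨O, hO, hxO, hOW, ?_⟩
  let e : Γ(A, O) ≃ₗ[Γ(X, O)] Γ(B, O) := LinearEquiv.ofBijective
    { toFun := fun a => ψ.app O a
      map_add' := fun a b => map_add _ a b
      map_smul' := fun r a => Hom.app_smul ψ r a } (hψ O hOW)
  exact Module.FinitePresentation.of_equiv e.symm

end Groth.Agent.H97.FPExt_P3
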