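import Mathlib
import Groth.Prelude.Def_EtModW
import Groth.Prelude.Def_ARSys
import Groth.Agent.H23.AdicDefs

/-!
# helper97: (A1) for helper23's S14009 squad — Stacks 09B8, the algebraic core: in an `I`-adic
inverse system of modules (`I` finitely generated) a compatible family vanishing at level `n`
lies in `I^(n+1)` times the limit.

The proof avoids composite transition maps: it works in the product `P = Π M m` with the
"shift-down" operator `T u m = t m (u (m+1))`, whose fixed points are the compatible families.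
Approximate solutions `v j ∈ P` (level-wise, with error in `I^(m-n) M m`) are turned into
compatible families by applying `T^(n+1)`.
-/

set_option autoImplicit false
universe u v
open CategoryTheory CategoryTheory.Limits AlgebraicGeometry Opposite
open Groth.Agent.H23.AdicDefs

namespace Groth.Agent.H97.Adic_A1

theorem exists_sum_of_mem_span_smul {R : Type v} [CommRing R] {A : Type v} [AddCommGroup A]
    [Module R A] {s : ℕ} (g : Fin s → R) (N : Submodule R A) (δ : A)
    (h : δ ∈ Ideal.span (Set.range g) • N) :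
    ∃ z : Fin s → A, (∀ j, z j ∈ N) ∧ δ = ∑ j, g j • z j := by
  refine Submodule.smul_induction_on h ?_ ?_
  · intro r hr n' hn'
    obtain ⟨c, rfl⟩ := Ideal.mem_span_range_iff_exists_fun.mp hr
    refine ⟨fun j => c j • n', fun j => N.smul_mem _ hn', ?_⟩
    rw [Finset.sum_smul]
    refine Finset.sum_congr rfl fun j _ => ?_
    rw [mul_comm, mul_smul]
  · rintro a b ⟨za, hza, rfl⟩ ⟨zb, hzb, rfl⟩
    exact ⟨fun j => za j + zb j, fun j => N.add_mem (hza j) (hzb j), by
      simp only [smul_add, Finset.sum_add_distrib]⟩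

theorem map_mem_pow_smul_top {R : Type v} [CommRing R] (I : Ideal R) {A B : Type v}
    [AddCommGroup A] [Module R A] [AddCommGroup B] [Module R B] (f : A →ₗ[R] B) (a : ℕ) (z : A)
    (hz : z ∈ (I ^ a) • (⊤ : Submodule R A)) : f z ∈ (I ^ a) • (⊤ : Submodule R B) := by
  refine Submodule.smul_induction_on hz ?_ ?_
  · intro r hr n' _
    rw [map_smul]
    exact Submodule.smul_mem_smul hr Submodule.mem_top
  · intro a b ha hb
    rw [map_add]
    exact Submodule.add_mem _ ha hb

/-- (A1) -/
theorem mem_smul_compat {R : Type v} [CommRing R] (I : Ideal R) (hI : I.FG) (M : ℕ → Type v)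
    [∀ m, AddCommGroup (M m)] [∀ m, Module R (M m)] (t : ∀ m, M (m + 1) →ₗ[R] M m)
    (ht : ∀ m, Function.Surjective (t m))
    (hker : ∀ m, LinearMap.ker (t m) = (I ^ (m + 1)) • (⊤ : Submodule R (M (m + 1))))
    (hkill : ∀ m, ∀ a ∈ I ^ (m + 1), ∀ z : M m, a • z = 0)
    (n : ℕ) (x : ∀ m, M m) (hx : x ∈ compat t) (hxn : x n = 0) :
    x ∈ (I ^ (n + 1)) • (compat t) := by
  classical
  have hx' : ∀ m, t m (x (m + 1)) = x m := hx
  have hx0 : ∀ d m, m + d = n → x m = 0 := by
    intro d
    induction d with
    | zero =>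
      intro m hm
      rw [Nat.add_zero] at hm
      rw [hm]
      exact hxn
    | succ d ih =>
      intro m hm
      rw [← hx' m, ih (m + 1) (by omega), map_zero]
  have hxle : ∀ m, m ≤ n → x m = 0 := fun m hm => hx0 (n - m) m (by omega)
  obtain ⟨s, g, hg⟩ := Submodule.fg_iff_exists_fin_generating_family.mp (hI.pow (n := n + 1))
  have hg' : Ideal.span (Set.range g) = I ^ (n + 1) := hg
  have hgJ : ∀ j, g j ∈ I ^ (n + 1) := fun j => by
    rw [← hg']
    exact Ideal.subset_span ⟨j, rfl⟩
  have hbot : ∀ m (z : M m), z ∈ (I ^ (m + 1)) • (⊤ : Submodule R (M m)) → z = 0 := by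
    intro m z hz
    refine Submodule.smul_induction_on hz ?_ ?_
    · intro r hr w _
      exact hkill m r hr w
    · intro a b ha hb
      rw [ha, hb, add_zero]
  -- the inductive step
  have S : ∀ m (v : Fin s → M m), (∑ j, g j • v j = x m) →
      ∃ v' : Fin s → M (m + 1), (∑ j, g j • v' j = x (m + 1)) ∧
        ∀ j, t m (v' j) - v j ∈ (I ^ (m - n)) • (⊤ : Submodule R (M m)) := by
    intro m v hv
    by_cases hmn : n ≤ m
    · choose vt hvt using fun j => ht m (v j)
      have hδ : x (m + 1) - ∑ j, g j • vt j ∈ LinearMap.ker (t m) := by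
        rw [LinearMap.mem_ker, map_sub, hx' m, map_sum]
        simp only [map_smul, hvt]
        rw [hv, sub_self]
      rw [hker m] at hδ
      have hpow : I ^ (m + 1) = Ideal.span (Set.range g) * I ^ (m - n) := by
        rw [hg', ← pow_add]
        congr 1
        omega
      rw [hpow, Submodule.mul_smul] at hδ
      obtain ⟨z, hz, hzsum⟩ := exists_sum_of_mem_span_smul g _ _ hδ
      refine ⟨fun j => vt j + z j, ?_, ?_⟩
      · simp only [smul_add, Finset.sum_add_distrib]
        rw [← hzsum]
        abel
      · intro j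
        show t m (vt j + z j) - v j ∈ _
        rw [map_add, hvt j, add_sub_cancel_left]
        exact map_mem_pow_smul_top I (t m) (m - n) (z j) (hz j)
    · refine ⟨fun _ => 0, ?_, ?_⟩
      · simp only [smul_zero, Finset.sum_const_zero]
        exact (hxle (m + 1) (by omega)).symm
      · intro j
        have h0 : m - n = 0 := by omega
        rw [h0, pow_zero, Ideal.one_eq_top, Submodule.top_smul]
        exact Submodule.mem_top
  -- the recursion
  let V : ∀ m, {v : Fin s → M m // ∑ j, g j • v j = x m} := fun m =>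
    Nat.rec (motive := fun m => {v : Fin s → M m // ∑ j, g j • v j = x m})
      ⟨fun _ => 0, by
        simp only [smul_zero, Finset.sum_const_zero]
        exact (hxle 0 (Nat.zero_le n)).symm⟩
      (fun m v => ⟨(S m v.1 v.2).choose, (S m v.1 v.2).choose_spec.1⟩) m
  have hV : ∀ m j, t m ((V (m + 1)).1 j) - (V m).1 j ∈
      (I ^ (m - n)) • (⊤ : Submodule R (M m)) :=
    fun m j => (S m (V m).1 (V m).2).choose_spec.2 j
  -- the shift operator
  let T : Module.End R (∀ m, M m) :=
    LinearMap.pi (fun m => (t m).comp (LinearMap.proj (m + 1)))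
  have hT : ∀ (u : ∀ m, M m) m, T u m = t m (u (m + 1)) := fun u m => rfl
  have hW : ∀ d (a : ℕ → ℕ) (w : ∀ m, M m),
      (∀ m, w m ∈ (I ^ (a m)) • (⊤ : Submodule R (M m))) →
      ∀ m, ((T ^ d) w) m ∈ (I ^ (a (m + d))) • (⊤ : Submodule R (M m)) := by
    intro d
    induction d with
    | zero =>
      intro a w hw m
      simpa using hw m
    | succ d ih =>
      intro a w hw m
      rw [pow_succ, Module.End.mul_apply]
      exact ih (fun m => a (m + 1)) (T w) (fun m => by
        rw [hT]
        exact map_mem_pow_smul_top I (t m) _ _ (hw (m + 1))) m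
  have hTfix : T x = x := funext fun m => hx' m
  have hTx : ∀ d, (T ^ d) x = x := by
    intro d
    induction d with
    | zero => simp
    | succ d ih => rw [pow_succ, Module.End.mul_apply, hTfix, ih]
  let vv : Fin s → (∀ m, M m) := fun j m => (V m).1 j
  have hsum : ∑ j, g j • vv j = x := by
    funext m
    rw [Finset.sum_apply]
    exact (V m).2
  have hw0 : ∀ j d, n + 1 ≤ d → (T ^ d) (T (vv j) - vv j) = 0 := by
    intro j d hd
    funext m
    have h1 := hW d (fun m => m - n) (T (vv j) - vv j) (fun m => hV m j) m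
    apply hbot m
    exact Submodule.smul_mono_left (Ideal.pow_le_pow_right (by omega)) h1
  have hy : ∀ j, (T ^ (n + 1)) (vv j) ∈ compat t := by
    intro j
    have hc : T * T ^ (n + 1) = T ^ (n + 1) * T := by rw [← pow_succ', ← pow_succ]
    have e : T (vv j) = vv j + (T (vv j) - vv j) := by abel
    have hfix : T ((T ^ (n + 1)) (vv j)) = (T ^ (n + 1)) (vv j) := by
      calc T ((T ^ (n + 1)) (vv j)) = (T * T ^ (n + 1)) (vv j) := rfl
        _ = (T ^ (n + 1) * T) (vv j) := by rw [hc]
        _ = (T ^ (n + 1)) (T (vv j)) := rfl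
        _ = (T ^ (n + 1)) (vv j) + (T ^ (n + 1)) (T (vv j) - vv j) := by
            conv_lhs => rw [e]
            rw [map_add]
        _ = (T ^ (n + 1)) (vv j) := by rw [hw0 j (n + 1) le_rfl, add_zero]
    have : ∀ m, t m (((T ^ (n + 1)) (vv j)) (m + 1)) = ((T ^ (n + 1)) (vv j)) m :=
      fun m => congrFun hfix m
    exact this
  have hfinal : x = ∑ j, g j • (T ^ (n + 1)) (vv j) := by
    calc x = (T ^ (n + 1)) x := (hTx (n + 1)).symm
      _ = (T ^ (n + 1)) (∑ j, g j • vv j) := by rw [hsum]
      _ = ∑ j, g j • (T ^ (n + 1)) (vv j) := by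
          rw [map_sum]
          simp only [map_smul]
  rw [hfinal]
  exact Submodule.sum_mem _ fun j _ => Submodule.smul_mem_smul (hgJ j) (hy j)

end Groth.Agent.H97.Adic_A1
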