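import Mathlib
import Groth.Agent.H46.HomCxPreDefs

/-!
# (QE) for helper46's S1818 squad: quasi-isomorphism from an element-wise criterion

The small element lemmas in `section Elements` are copied from helper12's
`Groth.Agent.H12.RGamHDI_A` (to keep this file light on imports).
-/

set_option autoImplicit false
universe u

open CategoryTheory CategoryTheory.Limits
open CochainComplex.HomComplex

namespace Groth.Agent.H97.HomCxPreQE

section Elements

variable {A : Type u} [CommRing A] (G : CochainComplex (ModuleCat.{u} A) ℤ) (p q r : ℤ)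

theorem exists_cycle (hqr : q + 1 = r) (x : G.X q) (hx : (G.d q r).hom x = 0) :
    ∃ z : G.cycles q, (G.iCycles q).hom z = x := by
  have hn : (ComplexShape.up ℤ).next q = r := by rw [CochainComplex.next]; exact hqr
  have hex : (ShortComplex.mk (G.iCycles q) (G.d q r) (G.iCycles_d q r)).Exact :=
    ShortComplex.exact_of_f_is_kernel _ (G.cyclesIsKernel q r hn)
  exact (ShortComplex.moduleCat_exact_iff _).1 hex x hx

theorem iCycles_injective : Function.Injective (G.iCycles q).hom :=
  (ModuleCat.mono_iff_injective _).1 inferInstance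

theorem homologyπ_surjective : Function.Surjective (G.homologyπ q).hom :=
  (ModuleCat.epi_iff_surjective _).1 inferInstance

theorem homologyπ_eq_zero_iff (hpq : p + 1 = q) (z : G.cycles q) :
    (G.homologyπ q).hom z = 0 ↔ ∃ y : G.X p, (G.toCycles p q).hom y = z := by
  have hn : (ComplexShape.up ℤ).prev q = p := by rw [CochainComplex.prev]; omega
  have hex : (ShortComplex.mk (G.toCycles p q) (G.homologyπ q)
      (G.toCycles_comp_homologyπ p q)).Exact :=
    ShortComplex.exact_of_g_is_cokernel _ (G.homologyIsCokernel p q hn)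
  constructor
  · intro hz
    exact (ShortComplex.moduleCat_exact_iff _).1 hex z hz
  · rintro ⟨y, rfl⟩
    have h0 := G.toCycles_comp_homologyπ p q
    exact congrArg (fun t => t.hom y) h0

theorem iCycles_toCycles (y : G.X p) :
    (G.iCycles q).hom ((G.toCycles p q).hom y) = (G.d p q).hom y :=
  congrArg (fun t => t.hom y) (G.toCycles_i p q)

theorem d_iCycles (z : G.cycles q) : (G.d q r).hom ((G.iCycles q).hom z) = 0 :=
  congrArg (fun t => t.hom z) (G.iCycles_d q r)

end Elements

variable {A : Type u} [CommRing A]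

/-- (QE) a morphism of complexes of modules which is injective and surjective on cohomology in
the element-wise sense is a quasi-isomorphism. -/
theorem quasiIso_of_elements {L L' : DRing.Cx A} (φ : L ⟶ L')
    (hinj : ∀ (n : ℤ) (z : L.X n), (L.d n (n + 1)).hom z = 0 →
      (∃ y' : L'.X (n - 1), (L'.d (n - 1) n).hom y' = (φ.f n).hom z) →
      ∃ y : L.X (n - 1), (L.d (n - 1) n).hom y = z)
    (hsurj : ∀ (n : ℤ) (z' : L'.X n), (L'.d n (n + 1)).hom z' = 0 →
      ∃ (z : L.X n) (y' : L'.X (n - 1)), (L.d n (n + 1)).hom z = 0 ∧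
        z' = (φ.f n).hom z + (L'.d (n - 1) n).hom y') :
    QuasiIso φ := by
  rw [quasiIso_iff]
  intro n
  rw [quasiIsoAt_iff_isIso_homologyMap]
  refine (ConcreteCategory.isIso_iff_bijective _).2
    (show Function.Bijective (HomologicalComplex.homologyMap φ n).hom from ⟨?_, ?_⟩)
  · refine (injective_iff_map_eq_zero (HomologicalComplex.homologyMap φ n).hom).2 ?_
    intro h hh
    obtain ⟨z, rfl⟩ := homologyπ_surjective L n h
    have hnat : (HomologicalComplex.homologyMap φ n).hom ((L.homologyπ n).hom z) =
        (L'.homologyπ n).hom ((HomologicalComplex.cyclesMap φ n).hom z) :=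
      congrArg (fun t => t.hom z) (HomologicalComplex.homologyπ_naturality φ n)
    rw [hnat] at hh
    obtain ⟨y', hy'⟩ := (homologyπ_eq_zero_iff L' (n - 1) n (by omega) _).1 hh
    have h1 : (L'.d (n - 1) n).hom y' = (φ.f n).hom ((L.iCycles n).hom z) := by
      rw [← iCycles_toCycles L' (n - 1) n y', hy']
      exact congrArg (fun t => t.hom z) (HomologicalComplex.cyclesMap_i φ n)
    obtain ⟨y, hy⟩ := hinj n ((L.iCycles n).hom z) (d_iCycles L n (n + 1) z) ⟨y', h1⟩
    rw [homologyπ_eq_zero_iff L (n - 1) n (by omega)]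
    refine ⟨y, iCycles_injective L n ?_⟩
    rw [iCycles_toCycles, hy]
  · intro h'
    obtain ⟨z', rfl⟩ := homologyπ_surjective L' n h'
    obtain ⟨z, y', hz, hzz⟩ := hsurj n ((L'.iCycles n).hom z') (d_iCycles L' n (n + 1) z')
    obtain ⟨c, hc⟩ := exists_cycle L n (n + 1) rfl z hz
    refine ⟨(L.homologyπ n).hom c, ?_⟩
    have hnat : (HomologicalComplex.homologyMap φ n).hom ((L.homologyπ n).hom c) =
        (L'.homologyπ n).hom ((HomologicalComplex.cyclesMap φ n).hom c) :=
      congrArg (fun t => t.hom c) (HomologicalComplex.homologyπ_naturality φ n)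
    refine hnat.trans ?_
    have h2 : z' = (HomologicalComplex.cyclesMap φ n).hom c +
        (L'.toCycles (n - 1) n).hom y' := by
      apply iCycles_injective L' n
      rw [map_add, iCycles_toCycles, hzz]
      congr 1
      rw [← hc]
      exact (congrArg (fun t => t.hom c) (HomologicalComplex.cyclesMap_i φ n)).symm
    have h3 : (L'.homologyπ n).hom ((L'.toCycles (n - 1) n).hom y') = 0 :=
      (homologyπ_eq_zero_iff L' (n - 1) n (by omega) _).2 ⟨y', rfl⟩
    rw [h2, map_add, h3, add_zero]

end Groth.Agent.H97.HomCxPreQE
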