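import Mathlib

/-!
# Order of vanishing and open immersions

* `ord_ringEquiv`, `ordFrac_transport`: transport of Mathlib's order of vanishing along compatible
  ring isomorphisms (same statements as in `Groth.Agent.H95.RefIso`, reproved here to keep this file
  light).
* `ffEquiv j : X.functionField ≃+* V.functionField` for an open immersion `j : V ⟶ X` of integral
  schemes, `stalkEquiv j v`, `ffEquiv_algebraMap`.
* `ord_ffEquiv`: `Scheme.ord (ffEquiv j f) v = Scheme.ord f (j v)`.
-/

set_option autoImplicit false
set_option linter.style.haveILetI false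

universe u

open CategoryTheory AlgebraicGeometry TopologicalSpace

namespace Groth.Agent.H97.OrdOpen

section Transport

theorem ord_ringEquiv {R R' : Type*} [CommRing R] [CommRing R'] (e : R ≃+* R') (a : R) :
    Ring.ord R' (e a) = Ring.ord R a := by
  unfold Ring.ord
  letI : Algebra R R' := e.toRingHom.toAlgebra
  have h1 : Module.length R (R' ⧸ Ideal.span {e a}) =
      Module.length R' (R' ⧸ Ideal.span {e a}) :=
    Module.length_eq_of_surjective e.surjective
  rw [← h1]
  let f : R ≃ₐ[R] R' := AlgEquiv.ofRingEquiv (f := e) (fun _ => rfl)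
  have hI : Ideal.span {e a} = Ideal.map (f : R →+* R') (Ideal.span {a}) := by
    rw [Ideal.map_span, Set.image_singleton]
    rfl
  exact (Ideal.quotientEquivAlg (Ideal.span {a}) (Ideal.span {e a}) f
    hI).toLinearEquiv.symm.length_eq

variable {R R' K K' : Type*} [CommRing R] [CommRing R'] [Field K] [Field K'] [Algebra R K]
  [Algebra R' K']

theorem ordFrac_transport [IsNoetherianRing R] [Ring.KrullDimLE 1 R] [Nontrivial R]
    [IsFractionRing R K] [IsNoetherianRing R'] [Ring.KrullDimLE 1 R'] [Nontrivial R']
    [IsFractionRing R' K'] (e : R ≃+* R') (ε : K ≃+* K')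
    (hc : ∀ r, ε (algebraMap R K r) = algebraMap R' K' (e r)) (f : K) :
    Ring.ordFrac R' (ε f) = Ring.ordFrac R f := by
  haveI : IsDomain R := (IsFractionRing.injective R K).isDomain
  haveI : IsDomain R' := (IsFractionRing.injective R' K').isDomain
  by_cases hf : f = 0
  · rw [hf, map_zero, map_zero, map_zero]
  obtain ⟨a, b, hb, rfl⟩ := IsFractionRing.div_surjective (A := R) f
  have hb0 : b ≠ 0 := nonZeroDivisors.ne_zero hb
  have ha0 : a ≠ 0 := by
    rintro rfl
    exact hf (by rw [map_zero, zero_div])
  have hea0 : e a ≠ 0 := (EmbeddingLike.map_ne_zero_iff (f := e)).mpr ha0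
  have heb0 : e b ≠ 0 := (EmbeddingLike.map_ne_zero_iff (f := e)).mpr hb0
  have key : ∀ c : R, c ≠ 0 →
      Ring.ordMonoidWithZeroHom R' (e c) = Ring.ordMonoidWithZeroHom R c := by
    intro c hc0
    have hec0 : e c ≠ 0 := (EmbeddingLike.map_ne_zero_iff (f := e)).mpr hc0
    rw [Ring.ordMonoidWithZeroHom_eq_ord (mem_nonZeroDivisors_of_ne_zero hec0),
      Ring.ordMonoidWithZeroHom_eq_ord (mem_nonZeroDivisors_of_ne_zero hc0), ord_ringEquiv]
  rw [map_div₀, hc, hc, map_div₀, map_div₀, Ring.ordFrac_eq_ord R ha0, Ring.ordFrac_eq_ord R hb0,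
    Ring.ordFrac_eq_ord R' hea0, Ring.ordFrac_eq_ord R' heb0, key a ha0, key b hb0]

end Transport

section OpenImm

variable {V X : Scheme.{u}} [IsIntegral V] [IsIntegral X] (j : V ⟶ X) [IsOpenImmersion j]

theorem spec_generic : j (genericPoint V) ⤳ genericPoint X := by
  rw [genericPoint_eq_of_isOpenImmersion j]

theorem spec_generic' : genericPoint X ⤳ j (genericPoint V) := by
  rw [genericPoint_eq_of_isOpenImmersion j]

/-- The comparison map of function fields along an open immersion. -/
noncomputable def ffHom : X.functionField ⟶ V.functionField :=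
  X.presheaf.stalkSpecializes (spec_generic j) ≫ j.stalkMap (genericPoint V)

instance : IsIso (ffHom j) := by
  haveI : IsIso (X.presheaf.stalkSpecializes (spec_generic j)) :=
    ⟨⟨X.presheaf.stalkSpecializes (spec_generic' j), by simp, by simp⟩⟩
  unfold ffHom
  infer_instance

/-- The isomorphism of function fields along an open immersion. -/
noncomputable def ffEquiv : X.functionField ≃+* V.functionField :=
  RingEquiv.ofBijective (ffHom j).hom (ConcreteCategory.bijective_of_isIso (ffHom j))

/-- The isomorphism of stalks along an open immersion. -/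
noncomputable def stalkEquiv (v : V) : X.presheaf.stalk (j v) ≃+* V.presheaf.stalk v :=
  RingEquiv.ofBijective (j.stalkMap v).hom (ConcreteCategory.bijective_of_isIso (j.stalkMap v))

theorem ffEquiv_algebraMap (v : V) (r : X.presheaf.stalk (j v)) :
    ffEquiv j (algebraMap (X.presheaf.stalk (j v)) X.functionField r) =
      algebraMap (V.presheaf.stalk v) V.functionField (stalkEquiv j v r) := by
  have hv : genericPoint V ⤳ v := (genericPoint_spec V).specializes (Set.mem_univ v)
  have hX : genericPoint X ⤳ j v := (genericPoint_spec X).specializes (Set.mem_univ _)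
  have h1 : (X.presheaf.stalkSpecializes (spec_generic j)).hom
      ((X.presheaf.stalkSpecializes hX).hom r) =
      (X.presheaf.stalkSpecializes (j.base.hom.map_specializes hv)).hom r :=
    TopCat.Presheaf.stalkSpecializes_comp_apply X.presheaf (spec_generic j) hX r
  have h2 := Scheme.Hom.stalkSpecializes_stalkMap_apply j (genericPoint V) v hv r
  exact (congrArg (j.stalkMap (genericPoint V)).hom h1).trans h2

variable [IsLocallyNoetherian V] [IsLocallyNoetherian X]

theorem ord_ffEquiv (f : X.functionField) (v : V) :
    Scheme.ord (ffEquiv j f) v = Scheme.ord f (j v) := by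
  have hco : Order.coheight (j v) = Order.coheight v := coheight_eq_of_isOpenImmersion j
  by_cases hv : Order.coheight v = 1
  · have hjv : Order.coheight (j v) = 1 := hco.trans hv
    by_cases hf : f = 0
    · subst hf; simp
    · have hf' : ffEquiv j f ≠ 0 := (EmbeddingLike.map_ne_zero_iff (f := ffEquiv j)).mpr hf
      rw [Scheme.ord_eq_iff hv hf']
      have h2 := (Scheme.ord_eq_iff hjv hf (n := Scheme.ord f (j v))).mp rfl
      rw [← h2]
      haveI : Ring.KrullDimLE 1 (V.presheaf.stalk v) := krullDimLE_of_coheight_le hv.le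
      haveI : Ring.KrullDimLE 1 (X.presheaf.stalk (j v)) := krullDimLE_of_coheight_le hjv.le
      exact ordFrac_transport (stalkEquiv j v) (ffEquiv j) (ffEquiv_algebraMap j v) f
  · rw [Scheme.ord_eq_zero_of_coheight_neq_one hv,
      Scheme.ord_eq_zero_of_coheight_neq_one (by rw [hco]; exact hv)]

end OpenImm

end Groth.Agent.H97.OrdOpen
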