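import Mathlib

/-!
# helper97: (T4-FREE) for helper43's S16612 squad — a subgroup of `ℤ^{r₁} × ℤ^{r₂}` is free of
finite rank.
-/

set_option autoImplicit false
universe u

namespace Groth.Agent.H97.T4_FREE

/-- (T4-FREE) -/
theorem exists_fin_addEquiv (r₁ r₂ : ℕ) (N : AddSubgroup ((Fin r₁ → ℤ) × (Fin r₂ → ℤ))) :
    ∃ r' : ℕ, Nonempty (N ≃+ (Fin r' → ℤ)) := by
  obtain ⟨n, ⟨b⟩⟩ := Submodule.nonempty_basis_of_pid
    (Module.Free.chooseBasis ℤ ((Fin r₁ → ℤ) × (Fin r₂ → ℤ))) (AddSubgroup.toIntSubmodule N)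
  let e : N ≃+ AddSubgroup.toIntSubmodule N :=
    { toFun := fun x => ⟨x.1, x.2⟩
      invFun := fun x => ⟨x.1, x.2⟩
      left_inv := fun _ => rfl
      right_inv := fun _ => rfl
      map_add' := fun _ _ => rfl }
  exact ⟨n, ⟨e.trans b.equivFun.toAddEquiv⟩⟩

end Groth.Agent.H97.T4_FREE
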