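import Mathlib
import Groth.Prelude.Def_FEt

/-!
# (S3) for helper47's S1143 squad: a finite étale model of the algebra gives a finite étale model
of the cover
-/

set_option autoImplicit false
universe u

open IsLocalRing TensorProduct AlgebraicGeometry CategoryTheory CategoryTheory.Limits

namespace Groth.Agent.H97.FEtSh

/-- (S3) a finite étale model of the algebra gives a finite étale model of the cover. -/
theorem exists_restrict_iso (A K E D : Type u) [CommRing A] [Field K] [Algebra A K] [CommRing E]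
    [Algebra K E] [CommRing D] [Algebra A D] [Module.Finite A D] [Algebra.Etale A D]
    (V : FEt.Cat (Spec (CommRingCat.of K))) (e : V.left ≅ Spec (CommRingCat.of E))
    (he : e.hom ≫ Spec.map (CommRingCat.ofHom (algebraMap K E)) = V.hom)
    (φ : K ⊗[A] D ≃ₐ[K] E) :
    ∃ Y : FEt.Cat (Spec (CommRingCat.of A)),
      Nonempty ((FEt.restrict (Spec.map (CommRingCat.ofHom (algebraMap A K)))).obj Y ≅ V) := by
  have hfin : IsFinite (Spec.map (CommRingCat.ofHom (algebraMap A D))) := by
    rw [IsFinite.SpecMap_iff]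
    exact RingHom.finite_algebraMap.mpr inferInstance
  have het : Etale (Spec.map (CommRingCat.ofHom (algebraMap A D))) := by
    rw [HasRingHomProperty.Spec_iff (P := @Etale)]
    exact RingHom.etale_algebraMap.mpr inferInstance
  let Y : FEt.Cat (Spec (CommRingCat.of A)) :=
    MorphismProperty.Over.mk ⊤ (Spec.map (CommRingCat.ofHom (algebraMap A D))) ⟨hfin, het⟩
  let ρ : E ≃+* D ⊗[A] K :=
    φ.symm.toRingEquiv.trans (Algebra.TensorProduct.comm A K D).toRingEquiv
  have hρ : ρ.toRingHom.comp (algebraMap K E) =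
      RingHomClass.toRingHom (Algebra.TensorProduct.includeRight : K →ₐ[A] D ⊗[A] K) := by
    ext k
    show (Algebra.TensorProduct.comm A K D) (φ.symm (algebraMap K E k)) = (1 : D) ⊗ₜ[A] k
    rw [AlgEquiv.commutes, Algebra.TensorProduct.algebraMap_apply,
      Algebra.TensorProduct.comm_tmul]
    simp
  let iS : Spec (CommRingCat.of (D ⊗[A] K)) ≅ Spec (CommRingCat.of E) :=
    Scheme.Spec.mapIso ρ.toCommRingCatIso.op
  have hiS : iS.hom = Spec.map (CommRingCat.ofHom ρ.toRingHom) := rfl
  refine ⟨Y, ⟨MorphismProperty.Over.isoMk (pullbackSpecIso A D K ≪≫ iS ≪≫ e.symm) ?_⟩⟩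
  show ((pullbackSpecIso A D K).hom ≫ iS.hom ≫ e.inv) ≫ V.hom = pullback.snd _ _
  rw [← he, hiS]
  simp only [Category.assoc, Iso.inv_hom_id_assoc]
  rw [← Spec.map_comp, ← CommRingCat.ofHom_comp, hρ]
  exact pullbackSpecIso_hom_snd A D K

end Groth.Agent.H97.FEtSh
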