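import Mathlib
import Groth.Prelude.Def_Wider
import Groth.Prelude.Def_CAlg

/-!
# helper97: (Q6) for helper55's S17759 squad — dimension bookkeeping for the support of a
finite module.
-/

set_option autoImplicit false
universe u
open IsLocalRing

namespace Groth.Agent.H97.HL_Q6

/-- (Q6) dimension bookkeeping for the support of a finite module. -/
theorem dim_facts (R : Type u) [CommRing R] [IsNoetherianRing R] (M : Type u) [AddCommGroup M]
    [Module R M] [Module.Finite R M] :
    (∀ p : PrimeSpectrum R, p ∈ Module.support R M →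
      ringKrullDim (R ⧸ p.asIdeal) ≤ Module.supportDim R M) ∧
    (∀ (n : ℕ), Module.supportDim R M = n → ∀ (p : Ideal R) [p.IsPrime],
      Module.annihilator R M ≤ p → ringKrullDim (R ⧸ p) = n →
      p ∈ (Module.annihilator R M).minimalPrimes) := by
  have key : ∀ q : Ideal R, Module.annihilator R M ≤ q →
      ringKrullDim (R ⧸ q) ≤ Module.supportDim R M := by
    intro q hq
    rw [Module.supportDim_eq_ringKrullDim_quotient_annihilator]
    exact ringKrullDim_le_of_surjective (Ideal.Quotient.factor hq)
      (Ideal.Quotient.factor_surjective hq)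
  refine ⟨fun p hp => key _ ?_, ?_⟩
  · rw [Module.support_eq_zeroLocus] at hp
    exact (PrimeSpectrum.mem_zeroLocus _ _).mp hp
  · intro n hn p hp hle hdim
    refine ⟨⟨hp, hle⟩, ?_⟩
    rintro q ⟨hq, hIq⟩ hqp
    by_contra hnot
    obtain ⟨x, hxp, hxq⟩ := SetLike.not_le_iff_exists.mp hnot
    have := hq
    have h1 : ringKrullDim (R ⧸ p) + 1 ≤ ringKrullDim (R ⧸ q) := by
      refine ringKrullDim_succ_le_of_surjective (Ideal.Quotient.factor hqp)
        (Ideal.Quotient.factor_surjective hqp) (r := Ideal.Quotient.mk q x) ?_ ?_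
      · apply mem_nonZeroDivisors_of_ne_zero
        rw [Ne, Ideal.Quotient.eq_zero_iff_mem]
        exact hxq
      · rw [Ideal.Quotient.factor_mk, Ideal.Quotient.eq_zero_iff_mem]
        exact hxp
    have h2 := key q hIq
    rw [hn] at h2
    rw [hdim] at h1
    have h4 : (n : WithBot ℕ∞) + 1 ≤ n := h1.trans h2
    have h5 : ((n + 1 : ℕ) : WithBot ℕ∞) ≤ ((n : ℕ) : WithBot ℕ∞) := by exact_mod_cast h4
    have h6 : n + 1 ≤ n := by exact_mod_cast h5
    omega

end Groth.Agent.H97.HL_Q6
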