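import Mathlib
import Groth.Agent.H57.TorFree.Defs
import Groth.Agent.H9.FiberStalk

/-!
# helper97: (MB) = (MB1) + (MB3a) for helper57's S4832 squad — the local ring of a fibre is the
quotient of the local ring of the total space by `𝔪_s O_{X,x}`.
-/

set_option autoImplicit false
universe u
open AlgebraicGeometry CategoryTheory Limits TopologicalSpace IsLocalRing

namespace Groth.Agent.H97.TF_MB

open Groth.Agent.H57.TorFree

variable {X S : Scheme.{u}}

/-- (MB1) the local ring of the fibre at `z` is a field iff `GenPt`. -/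
theorem maximalIdeal_fiber_stalk_eq_bot_iff (f : X ⟶ S) (s : S) (z : ↥(f.fiber s)) :
    IsLocalRing.maximalIdeal ((f.fiber s).presheaf.stalk z) = ⊥ ↔ GenPt f (f.fiberι s z) := by
  obtain ⟨hsurj, hker⟩ := Groth.Agent.H9.stalkMap_fiberι_surjective_and_ker_eq f s z
  have hloc : (IsLocalRing.maximalIdeal ((f.fiber s).presheaf.stalk z)).comap
      ((f.fiberι s).stalkMap z).hom =
        IsLocalRing.maximalIdeal (X.presheaf.stalk (f.fiberι s z)) :=
    ((IsLocalRing.local_hom_TFAE ((f.fiberι s).stalkMap z).hom).out 0 4).mp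
      (inferInstance : IsLocalHom ((f.fiberι s).stalkMap z).hom)
  have hker' : Ideal.map (f.stalkMap (f.fiberι s z)).hom
      (IsLocalRing.maximalIdeal (S.presheaf.stalk (f (f.fiberι s z)))) =
        RingHom.ker ((f.fiberι s).stalkMap z).hom := hker.symm
  unfold GenPt
  rw [hker', ← hloc, RingHom.ker_eq_comap_bot, Ideal.comap_le_comap_iff_of_surjective _ hsurj,
    le_bot_iff]

/-- (MB3a) if the local ring of the fibre at `z` is a domain, `𝔪_s O_{X,x}` is prime. -/
theorem isPrime_map_stalkMap_of_isDomain (f : X ⟶ S) (s : S) (z : ↥(f.fiber s))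
    [IsDomain ((f.fiber s).presheaf.stalk z)] :
    (Ideal.map (f.stalkMap (f.fiberι s z)).hom
      (IsLocalRing.maximalIdeal (S.presheaf.stalk (f (f.fiberι s z))))).IsPrime := by
  obtain ⟨-, hker⟩ := Groth.Agent.H9.stalkMap_fiberι_surjective_and_ker_eq f s z
  have hker' : Ideal.map (f.stalkMap (f.fiberι s z)).hom
      (IsLocalRing.maximalIdeal (S.presheaf.stalk (f (f.fiberι s z)))) =
        RingHom.ker ((f.fiberι s).stalkMap z).hom := hker.symm
  rw [hker']
  exact RingHom.ker_isPrime _

end Groth.Agent.H97.TF_MB
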