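import Mathlib

/-!
# helper97: (CS) + (NTa) + (AUT) for helper68's S0290/S0298 squad (pure Mathlib pieces).
-/

set_option autoImplicit false
universe u
open CategoryTheory CategoryTheory.Limits

namespace Groth.Agent.H97.GalK_CS

/-- (CS) -/
theorem continuousSMul_of_isOpen_stabilizer {G X : Type*} [Group G] [TopologicalSpace G]
    [IsTopologicalGroup G] [MulAction G X] [TopologicalSpace X] [DiscreteTopology X]
    (h : ∀ x : X, IsOpen (MulAction.stabilizer G x : Set G)) : ContinuousSMul G X := by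
  constructor
  rw [continuous_iff_continuousAt]
  rintro ⟨g₀, x₀⟩
  have hopen : IsOpen ((fun g : G => g₀⁻¹ * g) ⁻¹' (MulAction.stabilizer G x₀ : Set G)) :=
    (h x₀).preimage (continuous_const_mul g₀⁻¹)
  have hU : IsOpen (((fun g : G => g₀⁻¹ * g) ⁻¹' (MulAction.stabilizer G x₀ : Set G)) ×ˢ
      ({x₀} : Set X)) := hopen.prod (isOpen_discrete _)
  have hmem : (g₀, x₀) ∈ ((fun g : G => g₀⁻¹ * g) ⁻¹' (MulAction.stabilizer G x₀ : Set G)) ×ˢ
      ({x₀} : Set X) := by
    refine ⟨?_, rfl⟩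
    show g₀⁻¹ * g₀ ∈ MulAction.stabilizer G x₀
    rw [inv_mul_cancel]
    exact one_mem _
  refine (continuousAt_const (y := g₀ • x₀)).congr ?_
  refine Filter.eventuallyEq_of_mem (hU.mem_nhds hmem) ?_
  rintro ⟨g, x⟩ ⟨hg, hx⟩
  have hx' : x = x₀ := hx
  have hg' : (g₀⁻¹ * g) • x₀ = x₀ := MulAction.mem_stabilizer_iff.mp hg
  show g₀ • x₀ = g • x
  rw [hx']
  calc g₀ • x₀ = g₀ • ((g₀⁻¹ * g) • x₀) := by rw [hg']
    _ = (g₀ * (g₀⁻¹ * g)) • x₀ := (mul_smul _ _ _).symm
    _ = g • x₀ := by rw [mul_inv_cancel_left]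

/-- (NTa) -/
theorem eq_one_of_forall_isSeparable {K : Type u} [Field K]
    (σ : AlgebraicClosure K ≃ₐ[K] AlgebraicClosure K)
    (h : ∀ a : AlgebraicClosure K, IsSeparable K a → σ a = a) : σ = 1 := by
  have hinj := IsPurelyInseparable.injective_comp_algebraMap
    (separableClosure K (AlgebraicClosure K)) (AlgebraicClosure K) (AlgebraicClosure K)
  have heq : (σ : AlgebraicClosure K →+* AlgebraicClosure K).comp
      (algebraMap (separableClosure K (AlgebraicClosure K)) (AlgebraicClosure K)) =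
      (RingHom.id (AlgebraicClosure K)).comp
        (algebraMap (separableClosure K (AlgebraicClosure K)) (AlgebraicClosure K)) := by
    ext ⟨a, ha⟩
    exact h a (mem_separableClosure_iff.mp ha)
  have h2 := hinj heq
  ext a
  simpa using RingHom.congr_fun h2 a

/-- (AUT) -/
theorem nonempty_aut_mulEquiv {C : Type (u + 1)} [Category.{u} C] (F : C ⥤ FintypeCat.{u})
    (F' : C ⥤ Type u) (e : F ⋙ FintypeCat.incl ≅ F') : Nonempty (Aut F ≃* Aut F') :=
  ⟨(((Functor.FullyFaithful.ofFullyFaithful FintypeCat.incl).whiskeringRight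
    C).autMulEquivOfFullyFaithful F).trans (Iso.conjAut e)⟩

end Groth.Agent.H97.GalK_CS
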