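import Mathlib

/-!
# Helper library (helper97): base change and fibrewise criteria for Azumaya algebras

* `theta_bijective` : `S ⊗ Hom_R(M,N) → Hom_S(S ⊗ M, S ⊗ N)` is bijective for `M` f.g. projective.
* `mulLeftRight_baseChange_bijective_iff` : for `A` f.g. projective over `R`,
  `mulLeftRight S (S ⊗ A)` is bijective iff the base change of `mulLeftRight R A` is.
* `bijective_of_forall_maximal_baseChange_quotient` : a map from a finite module to a finite
  projective module is bijective if it is so modulo every maximal ideal.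
* `mulLeftRight_bijective_of_isCentral_isSimpleRing` : central simple ⇒ Azumaya over a field.
* `isSimpleRing_of_isAzumaya_field` : Azumaya over a field ⇒ simple.
-/

set_option autoImplicit false
set_option linter.style.haveILetI false

open TensorProduct MulOpposite

namespace Groth.Agent.H97

section lemmas

variable {R : Type*} [CommRing R]

/-- a finite flat faithful module is faithfully flat -/
lemma faithfullyFlat_of_finite_flat_faithful (M : Type*) [AddCommGroup M] [Module R M]
    [Module.Finite R M] [Module.Flat R M] [FaithfulSMul R M] : Module.FaithfullyFlat R M := by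
  refine ⟨fun m hm h => ?_⟩
  obtain ⟨r, hr1, hr0⟩ := Submodule.exists_sub_one_mem_and_smul_eq_zero_of_fg_of_le_smul m
    (⊤ : Submodule R M) Module.Finite.fg_top h.ge
  have hr : r = 0 := by
    apply FaithfulSMul.eq_of_smul_eq_smul (α := M)
    intro x
    rw [zero_smul]
    exact hr0 x trivial
  rw [hr, zero_sub] at hr1
  exact hm.ne_top ((Ideal.eq_top_iff_one m).2 (by simpa using m.neg_mem hr1))

/-- for a (possibly noncommutative) faithfully flat algebra `A`, `n ↦ 1 ⊗ n` is injective -/
lemma one_tmul_injective (A : Type*) [Ring A] [Algebra R A] [Module.FaithfullyFlat R A]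
    (N : Type*) [AddCommGroup N] [Module R N] :
    Function.Injective (TensorProduct.mk R A N 1) := by
  rw [← Module.FaithfullyFlat.lTensor_injective_iff_injective R A]
  let g : A ⊗[R] (A ⊗[R] N) →ₗ[R] A ⊗[R] N :=
    (LinearMap.rTensor N (LinearMap.mul' R A)) ∘ₗ (TensorProduct.assoc R A A N).symm.toLinearMap
  have hg : g ∘ₗ (TensorProduct.mk R A N 1).lTensor A = LinearMap.id := by
    apply TensorProduct.ext'
    intro a n
    simp [g]
  exact Function.LeftInverse.injective (g := g) (fun x => LinearMap.congr_fun hg x)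

/-- a faithfully flat algebra (possibly noncommutative) is faithful -/
lemma faithfulSMul_of_faithfullyFlat (A : Type*) [Ring A] [Algebra R A]
    [Module.FaithfullyFlat R A] : FaithfulSMul R A := by
  rw [faithfulSMul_iff_algebraMap_injective]
  intro r s h
  apply one_tmul_injective (R := R) A R
  apply (TensorProduct.rid R A).injective
  simpa [Algebra.algebraMap_eq_smul_one] using h

variable (R) (S : Type*) [CommRing S] [Algebra R S]
  (M N : Type*) [AddCommGroup M] [Module R M] [AddCommGroup N] [Module R N]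

/-- the comparison map `S ⊗ Hom_R(M,N) → Hom_S(S ⊗ M, S ⊗ N)` -/
noncomputable def theta : S ⊗[R] (M →ₗ[R] N) →ₗ[S] (S ⊗[R] M →ₗ[S] S ⊗[R] N) :=
  LinearMap.liftBaseChange S (LinearMap.baseChangeHom R S M N)

lemma theta_tmul (s : S) (f : M →ₗ[R] N) :
    theta R S M N (s ⊗ₜ f) = s • f.baseChange S := rfl

theorem theta_bijective [Module.Finite R M] [Module.Projective R M] :
    Function.Bijective (theta R S M N) := by
  obtain ⟨n, p, i, -, -, hpi⟩ := Module.Finite.exists_comp_eq_id_of_projective R M
  have hY : IsBaseChange S (LinearMap.baseChangeHom R S (Fin n → R) N) :=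
    Module.isBaseChange_map_of_finite_free N S (Fin n)
  let θY := hY.equiv
  have θY_tmul : ∀ (s : S) (f : (Fin n → R) →ₗ[R] N), θY (s ⊗ₜ f) = s • f.baseChange S :=
    fun s f => hY.equiv_tmul s f
  let Fp : S ⊗[R] (M →ₗ[R] N) →ₗ[S] S ⊗[R] ((Fin n → R) →ₗ[R] N) :=
    (LinearMap.lcomp R N p).baseChange S
  let Fi : S ⊗[R] ((Fin n → R) →ₗ[R] N) →ₗ[S] S ⊗[R] (M →ₗ[R] N) :=
    (LinearMap.lcomp R N i).baseChange S
  have hFiFp : ∀ x, Fi (Fp x) = x := by
    intro x
    induction x using TensorProduct.induction_on with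
    | zero => simp
    | tmul s f =>
      simp only [Fi, Fp, LinearMap.baseChange_tmul, LinearMap.lcomp_apply']
      rw [LinearMap.comp_assoc, hpi, LinearMap.comp_id]
    | add x y hx hy => rw [map_add, map_add, hx, hy]
  have hpiS : p.baseChange S ∘ₗ i.baseChange S = LinearMap.id := by
    rw [← LinearMap.baseChange_comp, hpi, LinearMap.baseChange_id]
  have nat_p : ∀ x, θY (Fp x) = (theta R S M N x) ∘ₗ p.baseChange S := by
    intro x
    induction x using TensorProduct.induction_on with
    | zero => simp
    | tmul s f =>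
      simp only [Fp, LinearMap.baseChange_tmul, θY_tmul, theta_tmul, LinearMap.lcomp_apply',
        LinearMap.baseChange_comp, LinearMap.smul_comp]
    | add x y hx hy => rw [map_add, map_add, map_add, hx, hy, LinearMap.add_comp]
  have nat_i : ∀ y, theta R S M N (Fi y) = (θY y) ∘ₗ i.baseChange S := by
    intro y
    induction y using TensorProduct.induction_on with
    | zero => simp
    | tmul s f =>
      simp only [Fi, LinearMap.baseChange_tmul, θY_tmul, theta_tmul, LinearMap.lcomp_apply',
        LinearMap.baseChange_comp, LinearMap.smul_comp]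
    | add x y hx hy => rw [map_add, map_add, map_add, hx, hy, LinearMap.add_comp]
  constructor
  · intro x x' h
    have h1 : θY (Fp x) = θY (Fp x') := by rw [nat_p, nat_p, h]
    have h2 := θY.injective h1
    rw [← hFiFp x, ← hFiFp x', h2]
  · intro h
    obtain ⟨y, hy⟩ := θY.surjective (h ∘ₗ p.baseChange S)
    refine ⟨Fi y, ?_⟩
    rw [nat_i, hy, LinearMap.comp_assoc, hpiS, LinearMap.comp_id]

/-- endomorphisms of a f.g. projective module form a f.g. projective module -/
lemma end_finite_projective (P : Type*) [AddCommGroup P] [Module R P] [Module.Finite R P]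
    [Module.Projective R P] :
    Module.Finite R (Module.End R P) ∧ Module.Projective R (Module.End R P) := by
  obtain ⟨n, p, i, -, -, hpi⟩ := Module.Finite.exists_comp_eq_id_of_projective R P
  have hpi' : ∀ x, p (i x) = x := fun x => LinearMap.congr_fun hpi x
  let ci : Module.End R P →ₗ[R] Module.End R (Fin n → R) :=
    { toFun := fun f => i ∘ₗ f ∘ₗ p
      map_add' := fun f g => by
        refine LinearMap.ext fun v => ?_
        simp
      map_smul' := fun r f => by
        refine LinearMap.ext fun v => ?_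
        simp }
  let cp : Module.End R (Fin n → R) →ₗ[R] Module.End R P :=
    { toFun := fun g => p ∘ₗ g ∘ₗ i
      map_add' := fun f g => by
        refine LinearMap.ext fun v => ?_
        simp
      map_smul' := fun r f => by
        refine LinearMap.ext fun v => ?_
        simp }
  have hci : ∀ (f : Module.End R P) v, ci f v = i (f (p v)) := fun f v => rfl
  have hcp : ∀ (g : Module.End R (Fin n → R)) x, cp g x = p (g (i x)) := fun g x => rfl
  have hcc : ∀ f, cp (ci f) = f := by
    intro f
    ext x
    rw [hcp, hci, hpi', hpi']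
  have hcc' : cp ∘ₗ ci = LinearMap.id := LinearMap.ext hcc
  exact ⟨Module.Finite.of_surjective cp (fun f => ⟨ci f, hcc f⟩),
    Module.Projective.of_split ci cp hcc'⟩

end lemmas

section BC

variable (R : Type*) [CommRing R] (S : Type*) [CommRing S] [Algebra R S]
  (A : Type*) [Ring A] [Algebra R A]

/-- `S ⊗ Aᵐᵒᵖ ≃ (S ⊗ A)ᵐᵒᵖ` -/
noncomputable def rho : S ⊗[R] Aᵐᵒᵖ ≃ₗ[S] (S ⊗[R] A)ᵐᵒᵖ :=
  TensorProduct.AlgebraTensorModule.congr (LinearEquiv.refl S S) (opLinearEquiv R).symm ≪≫ₗ
    opLinearEquiv S

lemma rho_tmul (s : S) (a : Aᵐᵒᵖ) : rho R S A (s ⊗ₜ a) = op (s ⊗ₜ a.unop) := rfl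

/-- `S ⊗ (A ⊗ Aᵐᵒᵖ) ≃ (S ⊗ A) ⊗_S (S ⊗ A)ᵐᵒᵖ` -/
noncomputable def sigma : S ⊗[R] (A ⊗[R] Aᵐᵒᵖ) ≃ₗ[S] (S ⊗[R] A) ⊗[S] (S ⊗[R] A)ᵐᵒᵖ :=
  TensorProduct.AlgebraTensorModule.distribBaseChange R S A Aᵐᵒᵖ ≪≫ₗ
    TensorProduct.congr (LinearEquiv.refl S _) (rho R S A)

lemma mulLeftRight_sigma (z : S ⊗[R] (A ⊗[R] Aᵐᵒᵖ)) :
    AlgHom.mulLeftRight S (S ⊗[R] A) (sigma R S A z) =
      theta R S A A ((AlgHom.mulLeftRight R A).toLinearMap.baseChange S z) := by
  induction z using TensorProduct.induction_on with
  | zero => simp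
  | add x y hx hy => rw [map_add, map_add, map_add, map_add, hx, hy]
  | tmul s x =>
    induction x using TensorProduct.induction_on with
    | zero => simp
    | add x y hx hy => rw [tmul_add, map_add, map_add, map_add, map_add, hx, hy]
    | tmul a a' =>
      apply LinearMap.ext
      intro w
      induction w using TensorProduct.induction_on with
      | zero => simp
      | add u v hu hv => rw [map_add, map_add, hu, hv]
      | tmul t y =>
        simp only [sigma, LinearEquiv.trans_apply,
          TensorProduct.AlgebraTensorModule.distribBaseChange_tmul, TensorProduct.congr_tmul,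
          LinearEquiv.refl_apply, rho_tmul, AlgHom.mulLeftRight_apply, unop_op,
          Algebra.TensorProduct.tmul_mul_tmul,
          LinearMap.baseChange_tmul, AlgHom.toLinearMap_apply, theta_tmul, LinearMap.smul_apply,
          TensorProduct.smul_tmul', smul_eq_mul, mul_one]

theorem mulLeftRight_baseChange_bijective_iff [Module.Finite R A] [Module.Projective R A] :
    Function.Bijective (AlgHom.mulLeftRight S (S ⊗[R] A)) ↔
      Function.Bijective ((AlgHom.mulLeftRight R A).toLinearMap.baseChange S) := by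
  have hθ := theta_bijective R S A A
  have hσ := (sigma R S A).bijective
  have hcomp : (AlgHom.mulLeftRight S (S ⊗[R] A) : _ → _) ∘ (sigma R S A) =
      (theta R S A A) ∘ ((AlgHom.mulLeftRight R A).toLinearMap.baseChange S) := by
    funext z
    exact mulLeftRight_sigma R S A z
  rw [← Function.Bijective.of_comp_iff _ hσ, hcomp, Function.Bijective.of_comp_iff' hθ]

end BC

section Fibres

variable {R : Type*} [CommRing R]

/-- Nakayama: a f.g. submodule contained in `m • N` for every maximal `m` is zero. -/
lemma eq_bot_of_forall_maximal_le_smul {M : Type*} [AddCommGroup M] [Module R M]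
    (N : Submodule R M) (hN : N.FG)
    (h : ∀ m : Ideal R, m.IsMaximal → N ≤ m • N) : N = ⊥ := by
  by_contra hne
  have hann : N.annihilator ≠ ⊤ := by
    intro h1
    apply hne
    rw [Submodule.eq_bot_iff]
    intro x hx
    have h2 : (1 : R) ∈ N.annihilator := h1 ▸ Submodule.mem_top
    rw [Submodule.mem_annihilator] at h2
    simpa using h2 x hx
  obtain ⟨m, hm, hle⟩ := Ideal.exists_le_maximal _ hann
  obtain ⟨r, hr1, hr0⟩ :=
    Submodule.exists_sub_one_mem_and_smul_eq_zero_of_fg_of_le_smul m N hN (h m hm)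
  have hrann : r ∈ N.annihilator := Submodule.mem_annihilator.2 hr0
  have hrm : r ∈ m := hle hrann
  have h1m : (1 : R) ∈ m := by simpa using m.sub_mem hrm hr1
  exact hm.ne_top ((Ideal.eq_top_iff_one m).2 h1m)

lemma mem_smul_top_of_one_tmul_eq_zero {M : Type*} [AddCommGroup M] [Module R M] (I : Ideal R)
    (x : M) (hx : (1 : R ⧸ I) ⊗ₜ[R] x = 0) : x ∈ I • (⊤ : Submodule R M) := by
  have h := congrArg (TensorProduct.quotTensorEquivQuotSMul M I) hx
  rw [TensorProduct.quotTensorEquivQuotSMul_mk_one_tmul, map_zero,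
    Submodule.Quotient.mk_eq_zero] at h
  exact h

lemma exists_one_tmul_eq {M : Type*} [AddCommGroup M] [Module R M] (I : Ideal R)
    (w : (R ⧸ I) ⊗[R] M) : ∃ x : M, w = (1 : R ⧸ I) ⊗ₜ[R] x := by
  induction w using TensorProduct.induction_on with
  | zero => exact ⟨0, by simp⟩
  | tmul r x =>
    obtain ⟨r, rfl⟩ := Ideal.Quotient.mk_surjective r
    refine ⟨r • x, ?_⟩
    rw [← TensorProduct.smul_tmul, ← Algebra.algebraMap_eq_smul_one]
    rfl
  | add u v hu hv =>
    obtain ⟨x, rfl⟩ := hu
    obtain ⟨y, rfl⟩ := hv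
    exact ⟨x + y, by rw [tmul_add]⟩

/-- A linear map from a finite module to a finite projective module which is bijective modulo
every maximal ideal is bijective. -/
theorem bijective_of_forall_maximal_baseChange_quotient {P Q : Type*} [AddCommGroup P] [Module R P]
    [AddCommGroup Q] [Module R Q] [Module.Finite R P] [Module.Finite R Q] [Module.Projective R Q]
    (f : P →ₗ[R] Q)
    (h : ∀ m : Ideal R, m.IsMaximal → Function.Bijective (f.baseChange (R ⧸ m))) :
    Function.Bijective f := by
  -- surjectivity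
  have hsurj : Function.Surjective f := by
    have hC : (⊤ : Submodule R (Q ⧸ LinearMap.range f)) = ⊥ := by
      apply eq_bot_of_forall_maximal_le_smul _ Module.Finite.fg_top
      intro m hm c _
      obtain ⟨q, rfl⟩ := Submodule.Quotient.mk_surjective _ c
      obtain ⟨w, hw⟩ := (h m hm).2 ((1 : R ⧸ m) ⊗ₜ[R] q)
      obtain ⟨p, rfl⟩ := exists_one_tmul_eq m w
      rw [LinearMap.baseChange_tmul] at hw
      have h0 : (1 : R ⧸ m) ⊗ₜ[R] (q - f p) = 0 := by rw [tmul_sub, hw, sub_self]
      have h1 := mem_smul_top_of_one_tmul_eq_zero m _ h0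
      have h2 : (Submodule.Quotient.mk q : Q ⧸ LinearMap.range f) =
          (LinearMap.range f).mkQ (q - f p) := by
        rw [map_sub, Submodule.mkQ_apply, Submodule.mkQ_apply,
          (Submodule.Quotient.mk_eq_zero _).2 (LinearMap.mem_range_self f p), sub_zero]
      rw [h2]
      have h3 : (m • (⊤ : Submodule R Q)).map (LinearMap.range f).mkQ =
          m • (⊤ : Submodule R (Q ⧸ LinearMap.range f)) := by
        rw [Submodule.map_smul'', Submodule.map_top, Submodule.range_mkQ]
      rw [← h3]
      exact Submodule.mem_map_of_mem h1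
    rw [← LinearMap.range_eq_top, eq_top_iff]
    intro q _
    have hq : (Submodule.Quotient.mk q : Q ⧸ LinearMap.range f) ∈ (⊤ : Submodule R _) := trivial
    rw [hC, Submodule.mem_bot, Submodule.Quotient.mk_eq_zero] at hq
    exact hq
  -- injectivity
  obtain ⟨s, hs⟩ := Module.projective_lifting_property f LinearMap.id hsurj
  have hs' : ∀ q, f (s q) = q := fun q => LinearMap.congr_fun hs q
  let e : P →ₗ[R] P := LinearMap.id - s ∘ₗ f
  have he : ∀ p, e p = p - s (f p) := fun p => rfl
  have hfe : ∀ p, f (e p) = 0 := by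
    intro p
    rw [he, map_sub, hs', sub_self]
  have hee : ∀ p, e (e p) = e p := by
    intro p
    rw [he (e p), hfe, map_zero, sub_zero]
  have hE : LinearMap.range e = ⊥ := by
    apply eq_bot_of_forall_maximal_le_smul _
      (by rw [LinearMap.range_eq_map]; exact (Module.Finite.fg_top).map e)
    intro m hm x hx
    obtain ⟨p, rfl⟩ := hx
    have h0 : (1 : R ⧸ m) ⊗ₜ[R] (e p) = 0 := by
      apply (h m hm).1
      rw [LinearMap.baseChange_tmul, hfe, tmul_zero, map_zero]
    have h1 := mem_smul_top_of_one_tmul_eq_zero m _ h0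
    have h3 : (m • (⊤ : Submodule R P)).map e = m • LinearMap.range e := by
      rw [Submodule.map_smul'', Submodule.map_top]
    rw [← hee p, ← h3]
    exact Submodule.mem_map_of_mem h1
  have hzero : ∀ p, e p = 0 := by
    intro p
    have hp : e p ∈ LinearMap.range e := LinearMap.mem_range_self e p
    rw [hE, Submodule.mem_bot] at hp
    exact hp
  refine ⟨?_, hsurj⟩
  intro p p' hpp
  have h1 := hzero p
  have h2 := hzero p'
  rw [he, sub_eq_zero] at h1 h2
  rw [h1, h2, hpp]

/-- passing from an algebra-valued point over a maximal ideal to the quotient field -/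
theorem bijective_baseChange_quotient_of_algebra (m : Ideal R) [hm : m.IsMaximal]
    (K : Type*) [CommRing K] [Nontrivial K] [Algebra R K]
    (hK : m ≤ RingHom.ker (algebraMap R K))
    {M N : Type*} [AddCommGroup M] [Module R M] [AddCommGroup N] [Module R N] (f : M →ₗ[R] N)
    (h : Function.Bijective (f.baseChange K)) : Function.Bijective (f.baseChange (R ⧸ m)) := by
  letI : Field (R ⧸ m) := Ideal.Quotient.field m
  letI : Algebra (R ⧸ m) K :=
    (Ideal.Quotient.lift m (algebraMap R K) (fun a ha => RingHom.mem_ker.1 (hK ha))).toAlgebra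
  haveI : IsScalarTower R (R ⧸ m) K := IsScalarTower.of_algebraMap_eq (fun r => rfl)
  have hff : Module.FaithfullyFlat (R ⧸ m) K := inferInstance
  have h1 : Function.Bijective ((f.baseChange (R ⧸ m)).baseChange K) := by
    rw [LinearMap.baseChange_baseChange]
    exact ((TensorProduct.AlgebraTensorModule.cancelBaseChange R (R ⧸ m) K K N).symm.bijective.comp
      h).comp (TensorProduct.AlgebraTensorModule.cancelBaseChange R (R ⧸ m) K K M).bijective
  exact (Module.FaithfullyFlat.lTensor_bijective_iff_bijective (R ⧸ m) K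
    (f.baseChange (R ⧸ m))).1 h1

theorem nontrivial_quotient_tensor_of_algebra (m : Ideal R)
    (K : Type*) [CommRing K] [Algebra R K] (hK : m ≤ RingHom.ker (algebraMap R K))
    (M : Type*) [AddCommGroup M] [Module R M] [Nontrivial (K ⊗[R] M)] :
    Nontrivial ((R ⧸ m) ⊗[R] M) := by
  letI : Algebra (R ⧸ m) K :=
    (Ideal.Quotient.lift m (algebraMap R K) (fun a ha => RingHom.mem_ker.1 (hK ha))).toAlgebra
  haveI : IsScalarTower R (R ⧸ m) K := IsScalarTower.of_algebraMap_eq (fun r => rfl)
  by_contra hcon
  rw [not_nontrivial_iff_subsingleton] at hcon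
  have e := TensorProduct.AlgebraTensorModule.cancelBaseChange R (R ⧸ m) K K M
  have hz : ∀ w : K ⊗[R ⧸ m] ((R ⧸ m) ⊗[R] M), w = 0 := by
    intro w
    induction w using TensorProduct.induction_on with
    | zero => rfl
    | tmul x y => rw [Subsingleton.elim y 0, tmul_zero]
    | add a b ha hb => rw [ha, hb, add_zero]
  obtain ⟨a, b, hab⟩ := exists_pair_ne (K ⊗[R] M)
  apply hab
  apply e.symm.injective
  rw [hz (e.symm a), hz (e.symm b)]

theorem faithfullyFlat_of_forall_maximal_nontrivial (B : Type*) [AddCommGroup B] [Module R B]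
    [Module.Flat R B] (h : ∀ m : Ideal R, m.IsMaximal → Nontrivial ((R ⧸ m) ⊗[R] B)) :
    Module.FaithfullyFlat R B := by
  refine ⟨fun m hm htop => ?_⟩
  haveI := h m hm
  have e := TensorProduct.quotTensorEquivQuotSMul B m
  have hs : ∀ x : B ⧸ (m • (⊤ : Submodule R B)), x = 0 := by
    intro x
    obtain ⟨b, rfl⟩ := Submodule.Quotient.mk_surjective _ x
    rw [Submodule.Quotient.mk_eq_zero, htop]
    trivial
  obtain ⟨a, b, hab⟩ := exists_pair_ne ((R ⧸ m) ⊗[R] B)
  exact hab (e.injective (by rw [hs (e a), hs (e b)]))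

end Fibres

section Tower

/-- bijectivity of a base change is preserved by further base change -/
theorem bijective_baseChange_of_bijective_baseChange (R S T : Type*) [CommRing R] [CommRing S]
    [CommRing T] [Algebra R S] [Algebra R T] [Algebra S T] [IsScalarTower R S T]
    {M N : Type*} [AddCommGroup M] [Module R M] [AddCommGroup N] [Module R N] (f : M →ₗ[R] N)
    (h : Function.Bijective (f.baseChange S)) : Function.Bijective (f.baseChange T) := by
  have h1 : Function.Bijective ((f.baseChange S).baseChange T) := by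
    let e := LinearEquiv.ofBijective (f.baseChange S) h
    have he : ((f.baseChange S).baseChange T) = (e.toLinearMap.baseChange T) := rfl
    refine Function.bijective_iff_has_inverse.2
      ⟨e.symm.toLinearMap.baseChange T, fun x => ?_, fun x => ?_⟩
    · rw [he, ← LinearMap.comp_apply, ← LinearMap.baseChange_comp]
      simp
    · rw [he, ← LinearMap.comp_apply, ← LinearMap.baseChange_comp]
      simp
  rw [LinearMap.baseChange_baseChange] at h1
  have c1 := (TensorProduct.AlgebraTensorModule.cancelBaseChange R S T T M).bijective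
  have c2 := (TensorProduct.AlgebraTensorModule.cancelBaseChange R S T T N).symm.bijective
  rw [LinearMap.coe_comp, LinearMap.coe_comp] at h1
  exact (Function.Bijective.of_comp_iff _ c1).1 ((Function.Bijective.of_comp_iff' c2 _).1 h1)

end Tower

section Field

variable (k A : Type*) [Field k] [Ring A] [Algebra k A]

theorem mulLeftRight_surjective_of_isCentral_isSimpleRing
    [Algebra.IsCentral k A] [IsSimpleRing A] [FiniteDimensional k A] :
    Function.Surjective (AlgHom.mulLeftRight k A) := by
  classical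
  letI modE : Module (A ⊗[k] Aᵐᵒᵖ) A := Module.compHom A (AlgHom.mulLeftRight k A).toRingHom
  have hsmul : ∀ (z : A ⊗[k] Aᵐᵒᵖ) (x : A), z • x = AlgHom.mulLeftRight k A z x := fun z x => rfl
  haveI : IsSimpleModule (A ⊗[k] Aᵐᵒᵖ) A := by
    haveI : Nontrivial (Submodule (A ⊗[k] Aᵐᵒᵖ) A) := (Submodule.nontrivial_iff _).2 inferInstance
    refine (isSimpleModule_iff _ _).2 ⟨fun N => ?_⟩
    let I : TwoSidedIdeal A := TwoSidedIdeal.mk' (N : Set A) N.zero_mem
      (fun hx hy => N.add_mem hx hy) (fun hx => N.neg_mem hx)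
      (fun {x y} hy => by
        have h1 : (x ⊗ₜ[k] (op 1 : Aᵐᵒᵖ)) • y = x * y := by
          rw [hsmul, AlgHom.mulLeftRight_apply, unop_op, mul_one]
        rw [← h1]
        exact N.smul_mem _ hy)
      (fun {x y} hx => by
        have h1 : ((1 : A) ⊗ₜ[k] (op y : Aᵐᵒᵖ)) • x = x * y := by
          rw [hsmul, AlgHom.mulLeftRight_apply, unop_op, one_mul]
        rw [← h1]
        exact N.smul_mem _ hx)
    have hI : ∀ x, x ∈ I ↔ x ∈ N := fun x => TwoSidedIdeal.mem_mk' _ _ _ _ _ _ x
    rcases eq_bot_or_eq_top I with h | h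
    · left
      rw [Submodule.eq_bot_iff]
      intro x hx
      have : x ∈ I := (hI x).2 hx
      rw [h] at this
      exact (TwoSidedIdeal.mem_bot A).1 this
    · right
      rw [Submodule.eq_top_iff']
      intro x
      apply (hI x).1
      rw [h]
      trivial
  intro g
  have hcomm : ∀ (φ : Module.End (A ⊗[k] Aᵐᵒᵖ) A) (x : A), g (φ x) = φ (g x) := by
    intro φ x
    have h1 : ∀ a x' b : A, φ (a * x' * b) = a * φ x' * b := by
      intro a x' b
      have h2 := φ.map_smul (a ⊗ₜ[k] (op b : Aᵐᵒᵖ)) x'
      rw [hsmul, hsmul, AlgHom.mulLeftRight_apply, AlgHom.mulLeftRight_apply, unop_op] at h2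
      exact h2
    have hr : ∀ y, φ y = y * φ 1 := fun y => by simpa using h1 y 1 1
    have hl : ∀ y, φ y = φ 1 * y := fun y => by simpa using h1 1 1 y
    have hc : φ 1 ∈ Subalgebra.center k A :=
      Subalgebra.mem_center_iff.2 (fun b => by rw [← hr, ← hl])
    rw [Algebra.IsCentral.center_eq_bot, Algebra.mem_bot] at hc
    obtain ⟨c, hc⟩ := hc
    have hφ : ∀ y, φ y = c • y := fun y => by rw [hl, ← hc, ← Algebra.smul_def]
    rw [hφ, hφ, map_smul]
  let g' : Module.End (Module.End (A ⊗[k] Aᵐᵒᵖ) A) A :=
    { toFun := g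
      map_add' := g.map_add
      map_smul' := fun φ x => hcomm φ x }
  let b := Module.finBasis k A
  obtain ⟨z, hz⟩ := jacobson_density g' (Finset.univ.image b)
  refine ⟨z, ?_⟩
  apply b.ext
  intro i
  rw [← hsmul]
  exact (hz (b i) (Finset.mem_image_of_mem _ (Finset.mem_univ i))).symm

theorem mulLeftRight_bijective_of_isCentral_isSimpleRing
    [Algebra.IsCentral k A] [IsSimpleRing A] [FiniteDimensional k A] :
    Function.Bijective (AlgHom.mulLeftRight k A) := by
  have hs := mulLeftRight_surjective_of_isCentral_isSimpleRing k A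
  have hfin : Module.finrank k (A ⊗[k] Aᵐᵒᵖ) = Module.finrank k (Module.End k A) := by
    rw [Module.finrank_tensorProduct, Module.finrank_linearMap k k A A,
      ← (opLinearEquiv k : A ≃ₗ[k] Aᵐᵒᵖ).finrank_eq]
  exact ⟨(LinearMap.injective_iff_surjective_of_finrank_eq_finrank hfin
    (f := (AlgHom.mulLeftRight k A).toLinearMap)).2 hs, hs⟩

theorem isSimpleRing_of_isAzumaya_field [IsAzumaya k A] : IsSimpleRing A := by
  haveI : Nontrivial A := (FaithfulSMul.algebraMap_injective k A).nontrivial
  refine IsSimpleRing.of_eq_bot_or_eq_top (fun I => ?_)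
  by_cases hI : I = ⊥
  · exact Or.inl hI
  right
  obtain ⟨x, hxI, hx0⟩ := SetLike.exists_of_lt (bot_lt_iff_ne_bot.mpr hI : ⊥ < I)
  have hx0' : x ≠ 0 := fun h0 => hx0 ((TwoSidedIdeal.mem_bot A).2 h0)
  have key : ∀ z : A ⊗[k] Aᵐᵒᵖ, AlgHom.mulLeftRight k A z x ∈ I := by
    intro z
    induction z using TensorProduct.induction_on with
    | zero => rw [map_zero, LinearMap.zero_apply]; exact I.zero_mem
    | tmul a b =>
      rw [AlgHom.mulLeftRight_apply]
      exact I.mul_mem_right _ _ (I.mul_mem_left _ _ hxI)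
    | add u v hu hv => rw [map_add, LinearMap.add_apply]; exact I.add_mem hu hv
  obtain ⟨ℓ, hℓ⟩ := LinearMap.exists_leftInverse_of_injective (LinearMap.toSpanSingleton k A x)
    (LinearMap.ker_toSpanSingleton k hx0')
  have hℓx : ℓ x = 1 := by
    have := LinearMap.congr_fun hℓ 1
    simpa using this
  rw [eq_top_iff]
  intro y _
  obtain ⟨z, hz⟩ := (IsAzumaya.bij (R := k) (A := A)).2 (ℓ.smulRight y)
  have h1 := key z
  rw [hz, LinearMap.smulRight_apply, hℓx, one_smul] at h1
  exact h1

end Field

end Groth.Agent.H97
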