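import Groth.Agent.H1.Central.ExtDefs

/-!
# (SAT) for helper1's S5430 squad: the locus where the conjugation action is trivial is saturated
for `p`
-/

set_option autoImplicit false
universe u

open CategoryTheory CategoryTheory.Limits MonoidalCategory CartesianMonoidalCategory MonObj GrpObj
  AlgebraicGeometry
open Groth.Agent.H1.Central

namespace Groth.Agent.H97.CentralSAT

theorem locus_saturated {S : Scheme.{u}} {E H U : Over S} [GrpObj E] [GrpObj H] [GrpObj U]
    (p : E ⟶ U) [IsMonHom p] (i : H ⟶ E) [IsMonHom i] [Mono i] (hker : AlgGrp.IsKernel i p)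
    (hcomm : ∀ (T : Over S) (a b : T ⟶ H), a * b = b * a)
    (a : Red.bc E.hom H ⟶ Red.bc E.hom H) (ha : ConjProp i a)
    (hB1 : ∀ {W : Scheme.{u}} (q : W ⟶ E.left), (Over.pullback q).map a = 𝟙 _ ↔ CentAt i q)
    (hB2 : ∀ {W : Scheme.{u}} (q₁ q₂ : W ⟶ E.left), q₁ ≫ p.left = q₂ ≫ p.left →
      CentAt i q₁ → CentAt i q₂)
    (x y : E.left) (hxy : p.left.base x = p.left.base y)
    (hx : (Over.pullback (E.left.fromSpecResidueField x)).map a = 𝟙 _) :
    (Over.pullback (E.left.fromSpecResidueField y)).map a = 𝟙 _ := by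
  obtain ⟨px⟩ : Nonempty ↥(Spec (E.left.residueField x)) := inferInstance
  obtain ⟨py⟩ : Nonempty ↥(Spec (E.left.residueField y)) := inferInstance
  have h1 : (E.left.fromSpecResidueField x).base px = x := Scheme.fromSpecResidueField_apply x px
  have h2 : (E.left.fromSpecResidueField y).base py = y := Scheme.fromSpecResidueField_apply y py
  have hpt : (E.left.fromSpecResidueField x ≫ p.left).base px =
      (E.left.fromSpecResidueField y ≫ p.left).base py := by
    show p.left.base ((E.left.fromSpecResidueField x).base px) =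
      p.left.base ((E.left.fromSpecResidueField y).base py)
    rw [h1, h2]; exact hxy
  obtain ⟨w₀, -, -⟩ := Scheme.Pullback.exists_preimage_pullback
    (f := E.left.fromSpecResidueField x ≫ p.left)
    (g := E.left.fromSpecResidueField y ≫ p.left) px py hpt
  obtain ⟨P, f1, f2, hcond, ⟨w⟩⟩ : ∃ (P : Scheme.{u}) (f1 : P ⟶ Spec (E.left.residueField x))
      (f2 : P ⟶ Spec (E.left.residueField y)),
      f1 ≫ (E.left.fromSpecResidueField x ≫ p.left) =
        f2 ≫ (E.left.fromSpecResidueField y ≫ p.left) ∧ Nonempty P :=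
    ⟨pullback _ _, pullback.fst _ _, pullback.snd _ _, pullback.condition, ⟨w₀⟩⟩
  obtain ⟨rx, hrx⟩ : ∃ rx : Spec (P.residueField w) ⟶ Spec (E.left.residueField x),
      rx = P.fromSpecResidueField w ≫ f1 := ⟨_, rfl⟩
  obtain ⟨ry, hry⟩ : ∃ ry : Spec (P.residueField w) ⟶ Spec (E.left.residueField y),
      ry = P.fromSpecResidueField w ≫ f2 := ⟨_, rfl⟩
  have hq : (rx ≫ E.left.fromSpecResidueField x) ≫ p.left =
      (ry ≫ E.left.fromSpecResidueField y) ≫ p.left := by
    rw [hrx, hry]
    simp only [Category.assoc]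
    rw [hcond]
  obtain ⟨hfl, hsu, hqc⟩ := Groth.Agent.H43.MT.field_map_props (Field.toIsField _)
    (Field.toIsField _) (Spec.preimage ry)
  rw [Spec.map_preimage] at hfl hsu hqc
  haveI := hfl
  haveI := hsu
  haveI := hqc
  have c1 : (Over.pullback (rx ≫ E.left.fromSpecResidueField x)).map a = 𝟙 _ :=
    (eq_id_bc_comp rx (E.left.fromSpecResidueField x) _ rfl a).1
      (by rw [hx, CategoryTheory.Functor.map_id])
  have c2 : CentAt i (rx ≫ E.left.fromSpecResidueField x) := (hB1 _).1 c1
  have c3 : CentAt i (ry ≫ E.left.fromSpecResidueField y) := hB2 _ _ hq c2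
  have c4 : (Over.pullback (ry ≫ E.left.fromSpecResidueField y)).map a = 𝟙 _ := (hB1 _).2 c3
  have c5 := (eq_id_bc_comp ry (E.left.fromSpecResidueField y) _ rfl a).2 c4
  exact eq_id_of_bc ry _ c5

end Groth.Agent.H97.CentralSAT
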