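import Mathlib

/-!
# (TOP) for helper1's S5430 squad: a saturated clopen containing the unit section is everything
-/

set_option autoImplicit false
universe u

open CategoryTheory CategoryTheory.Limits MonoidalCategory CartesianMonoidalCategory MonObj GrpObj
  AlgebraicGeometry

namespace Groth.Agent.H97.CentralTOP

theorem eq_univ_of_saturated {S : Scheme.{u}} {E U : Over S} (p : E ⟶ U) [Surjective p.left]
    [Flat p.left] [QuasiCompact p.left] (eE : S ⟶ E.left) (heE : eE ≫ E.hom = 𝟙 S)
    (hU : ∀ s : S, _root_.IsConnected (U.hom.base ⁻¹' {s})) (Z : Set E.left) (hZ : IsClopen Z)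
    (hsat : ∀ x y : E.left, p.left.base x = p.left.base y → x ∈ Z → y ∈ Z)
    (hmem : ∀ s : S, eE.base s ∈ Z) : Z = Set.univ := by
  have hq : Topology.IsQuotientMap p.left.base := Flat.isQuotientMap_of_surjective p.left
  have hpre : p.left.base ⁻¹' (p.left.base '' Z) = Z := by
    apply Set.Subset.antisymm
    · rintro y ⟨x, hx, hxy⟩
      exact hsat x y hxy hx
    · exact Set.subset_preimage_image _ _
  have hZ' : IsClopen (p.left.base '' Z) := by
    constructor
    · rw [← hq.isClosed_preimage, hpre]; exact hZ.1
    · rw [← hq.isOpen_preimage, hpre]; exact hZ.2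
  have hw : ∀ e : E.left, U.hom.base (p.left.base e) = E.hom.base e := by
    intro e
    have h := congrArg (fun f : E.left ⟶ S => f.base e) (Over.w p)
    exact h
  have hsec : ∀ s : S, E.hom.base (eE.base s) = s := by
    intro s
    have h := congrArg (fun f : S ⟶ S => f.base s) heE
    simpa using h
  apply Set.eq_univ_of_forall
  intro e
  have hs1 : p.left.base (eE.base (E.hom.base e)) ∈ U.hom.base ⁻¹' {E.hom.base e} := by
    show U.hom.base (p.left.base (eE.base (E.hom.base e))) = E.hom.base e
    rw [hw, hsec]
  have hsub : U.hom.base ⁻¹' {E.hom.base e} ⊆ p.left.base '' Z :=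
    (hU (E.hom.base e)).isPreconnected.subset_isClopen hZ' ⟨_, hs1, ⟨_, hmem _, rfl⟩⟩
  have he : p.left.base e ∈ p.left.base '' Z := hsub (hw e)
  rw [← hpre]
  exact he

end Groth.Agent.H97.CentralTOP
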