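import Mathlib
import Groth.Prelude.Def_PBC
import Groth.Prelude.Def_ProEtS
import Groth.Agent.H23.EpsDefs
import Groth.Agent.H23.WCDefs

/-!
# helper97: (U0) for helper23's S0717 squad — the unit of `ε⁻¹ ⊣ ε_*` (Kan extension construction)
is the Kan extension unit followed by sheafification.
-/

set_option autoImplicit false
set_option backward.isDefEq.respectTransparency.types false
universe u
open CategoryTheory CategoryTheory.Limits AlgebraicGeometry Opposite
open Groth.Agent.H23.EpsDefs Groth.Agent.H23.WCDefs

namespace Groth.Agent.H97.Eps_U0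

universe v₁ v₂ v₃ u₁ u₂ u₃

/-- general form: the unit of the constructed adjunction, on underlying presheaves. -/
theorem unit_general {C : Type u₂} [Category.{v₂} C] {D : Type u₃} [Category.{v₃} D] (G : C ⥤ D)
    (A : Type u₁) [Category.{v₁} A]
    (J : GrothendieckTopology C) (K : GrothendieckTopology D) [Functor.IsContinuous G J K]
    [∀ (F : Cᵒᵖ ⥤ A), G.op.HasLeftKanExtension F] [HasWeakSheafify K A] (F : Sheaf J A) :
    ((Functor.sheafPullbackConstruction.sheafAdjunctionContinuous G A J K).unit.app F).hom =
      G.op.lanUnit.app F.obj ≫ Functor.whiskerLeft G.op (toSheafify K (G.op.lan.obj F.obj)) := by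
  have h := Adjunction.map_restrictFullyFaithful_unit_app
    (L := Functor.sheafPullbackConstruction.sheafPullback G A J K)
    (R := G.sheafPushforwardContinuous A J K)
    ((G.op.lanAdjunction A).comp (sheafificationAdjunction K A))
    (fullyFaithfulSheafToPresheaf J A) (Functor.FullyFaithful.id _) (Iso.refl _) (Iso.refl _) F
  simp only [Adjunction.comp_unit_app, Functor.lanAdjunction_unit,
    sheafificationAdjunction_unit_app] at h
  simp only [Iso.refl_hom, NatTrans.id_app] at h
  refine h.trans ?_
  erw [CategoryTheory.Functor.map_id, Category.comp_id, Category.comp_id]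
  rfl

/-- (U0) -/
theorem unit_app_hom_app (X : Scheme.{u}) (F : EtCoh.Ab X) [ProEtS.EpsCont X] (U : X.Etale) :
    (((Functor.sheafPullbackConstruction.sheafAdjunctionContinuous (ProEtS.eps X)
      AddCommGrpCat.{u + 1} X.smallEtaleTopology (Scheme.ProEt.topology X)).unit.app F).hom.app
        (op U)) =
      ((ProEtS.eps X).op.lanUnit.app F.obj).app (op U) ≫
        (thetaE X F.obj).app (op ((ProEtS.eps X).obj U)) := by
  rw [unit_general]
  rfl

end Groth.Agent.H97.Eps_U0
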