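import Mathlib
import Groth.Prelude.Def_FEt
import Groth.Agent.H69.FEtColim.Defs2
import Groth.Agent.H31.FEtColim_COPROD

/-!
# helper97: (PC) for helper69's S0285 squad — base change of finite étale covers preserves finite
coproducts.

Finite coproducts in `FEt.Cat X` are computed in `Scheme` (the forgetful functor creates them, by
helper31's closure lemma), and finite coproducts in `Scheme` are universal (`FinitaryExtensive`).
-/

set_option autoImplicit false
universe u
open TensorProduct
open CategoryTheory CategoryTheory.Limits AlgebraicGeometry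
open Groth.Agent.H69.FEtColim

namespace Groth.Agent.H97.FEtColim_PC

/-- The forgetful functor `FEt.Cat X ⥤ Scheme`. -/
noncomputable abbrev toSch (X : Scheme.{u}) : FEt.Cat X ⥤ Scheme.{u} :=
  MorphismProperty.Over.forget FEt.prop.{u} ⊤ X ⋙ Over.forget X

theorem isClosed (X : Scheme.{u}) (n : ℕ) :
    (FEt.prop.{u}.commaObj (𝟭 Scheme.{u})
      (Functor.fromPUnit.{0} X)).IsClosedUnderColimitsOfShape (Discrete (Fin n)) :=
  CostructuredArrow.isClosedUnderColimitsOfShape (L := 𝟭 Scheme.{u}) (P := FEt.prop.{u})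
    (fun D _ => colimit.cocone D) (fun D _ => colimit.isColimit D)
    (fun D _ {_} s hs => Groth.Agent.H31.FEtColim_COPROD.prop_desc n D s hs) X

instance preservesForget (X : Scheme.{u}) (n : ℕ) :
    PreservesColimitsOfShape (Discrete (Fin n))
      (MorphismProperty.Over.forget FEt.prop.{u} ⊤ X) := by
  have := isClosed X n
  let _ : CreatesColimitsOfShape (Discrete (Fin n))
      (MorphismProperty.Over.forget FEt.prop.{u} ⊤ X) :=
    MorphismProperty.Comma.forgetCreatesColimitsOfShapeOfClosed (P := FEt.prop.{u})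
      (L := 𝟭 Scheme.{u}) (R := Functor.fromPUnit.{0} X) (Discrete (Fin n))
  infer_instance

instance preservesToSch (X : Scheme.{u}) (n : ℕ) :
    PreservesColimitsOfShape (Discrete (Fin n)) (toSch X) := by
  unfold toSch
  infer_instance

/-- pasting: the comparison square between two pullbacks along `f` is a pullback. -/
theorem isPullback_aux {C : Type*} [Category C] {A B X Y P P' : C} (a : A ⟶ Y) (b : B ⟶ Y)
    (f : X ⟶ Y) (g : A ⟶ B) (hg : g ≫ b = a) (l : P' ⟶ P) (p1 : P ⟶ B) (p2 : P ⟶ X)
    (q1 : P' ⟶ A) (q2 : P' ⟶ X) (hP : IsPullback p1 p2 b f) (hP' : IsPullback q1 q2 a f)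
    (h1 : l ≫ p1 = q1 ≫ g) (h2 : l ≫ p2 = q2) : IsPullback l q1 p1 g := by
  subst hg
  subst h2
  exact IsPullback.of_right (h₁₁ := l) (h₁₂ := p2) (v₁₁ := q1) (v₁₂ := p1) (v₁₃ := f)
    (h₂₁ := g) (h₂₂ := b) hP'.flip h1 hP.flip

/-- (PC) -/
theorem preservesFiniteCoproducts_restrict {X Y : Scheme.{u}} (f : X ⟶ Y) :
    PreservesFiniteCoproducts (FEt.restrict f) := by
  refine ⟨fun n => ⟨fun {K} => ⟨fun {c} hc => ⟨?_⟩⟩⟩⟩
  have hc₀ : IsColimit ((toSch Y).mapCocone c) := isColimitOfPreserves (toSch Y) hc
  have huniv : IsUniversalColimit ((toSch Y).mapCocone c) :=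
    FinitaryPreExtensive.isUniversal_finiteCoproducts hc₀
  let c' : Cocone ((K ⋙ FEt.restrict f) ⋙ toSch X) :=
    (toSch X).mapCocone ((FEt.restrict f).mapCocone c)
  let α : (K ⋙ FEt.restrict f) ⋙ toSch X ⟶ K ⋙ toSch Y :=
    Discrete.natTrans (fun j => (pullback.fst (K.obj j).hom f : _))
  have hnonempty : Nonempty (IsColimit c') := by
    refine huniv c' α (pullback.fst c.pt.hom f) ?_ (.of_discrete _) ?_
    · ext j
      show pullback.fst (K.obj j).hom f ≫ (c.ι.app j).left =
        ((FEt.restrict f).map (c.ι.app j)).left ≫ pullback.fst c.pt.hom f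
      exact (pullback.lift_fst _ _ _).symm
    · intro j
      show IsPullback ((FEt.restrict f).map (c.ι.app j)).left (pullback.fst (K.obj j).hom f)
        (pullback.fst c.pt.hom f) (c.ι.app j).left
      exact isPullback_aux (K.obj j).hom c.pt.hom f (c.ι.app j).left
        (MorphismProperty.Over.w (c.ι.app j)) _ _ _ _ _
        (IsPullback.of_hasPullback c.pt.hom f) (IsPullback.of_hasPullback (K.obj j).hom f)
        (pullback.lift_fst _ _ _) (pullback.lift_snd _ _ _)
  exact isColimitOfReflects (toSch X) hnonempty.some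

end Groth.Agent.H97.FEtColim_PC
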