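import Mathlib

/-!
# helper97: (NT) for helper69's S0296/S0297 squad — between two fibre functors of a pre-Galois
category there is a natural transformation (pro-representability + finite nonempty cofiltered
system).
-/

set_option autoImplicit false
universe u₁ u₂
open CategoryTheory CategoryTheory.Limits

namespace Groth.Agent.H97.FEtGal_NT

open PreGaloisCategory

set_option backward.defeqAttrib.useBackward true in
set_option backward.isDefEq.respectTransparency false in
/-- (NT) -/
theorem exists_natTrans_fiberFunctor {C : Type u₁} [Category.{u₂} C] [PreGaloisCategory C]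
    (F F' : C ⥤ FintypeCat.{u₂}) [PreGaloisCategory.FiberFunctor F]
    [PreGaloisCategory.FiberFunctor F'] : Nonempty (F ⟶ F') := by
  have : GaloisCategory C := { hasFiberFunctor := ⟨F, ⟨inferInstance⟩⟩ }
  let G : PointedGaloisObject F ⥤ Type u₂ :=
    PointedGaloisObject.incl F ⋙ F' ⋙ FintypeCat.incl
  have : ∀ A, Finite (G.obj A) := fun A => inferInstanceAs (Finite (F'.obj A.obj))
  have : ∀ A, Nonempty (G.obj A) := fun A => nonempty_fiber_of_isConnected F' A.obj
  obtain ⟨s, hs⟩ := nonempty_sections_of_finite_cofiltered_system G
  have hs' : ∀ {A B : PointedGaloisObject F} (f : A ⟶ B), F'.map f.val (s A) = s B :=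
    fun f => hs f
  let c : Cocone ((PointedGaloisObject.incl F).op ⋙ coyoneda) :=
    { pt := F' ⋙ FintypeCat.incl
      ι :=
        { app := fun A =>
            { app := fun X => TypeCat.ofHom (fun (f : (A.unop.obj : C) ⟶ X) => F'.map f (s A.unop))
              naturality := by
                intro X Y g
                ext (f : (A.unop.obj : C) ⟶ X)
                show F'.map (f ≫ g) (s A.unop) = F'.map g (F'.map f (s A.unop))
                rw [F'.map_comp]
                rfl }
          naturality := by
            intro A B f
            ext Y (g : (A.unop.obj : C) ⟶ Y)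
            show F'.map (f.unop.val ≫ g) (s B.unop) = F'.map g (s A.unop)
            rw [F'.map_comp, ← hs' f.unop]
            rfl } }
  exact ⟨(Functor.FullyFaithful.whiskeringRight
    (Functor.FullyFaithful.ofFullyFaithful FintypeCat.incl) C).preimage
      ((PointedGaloisObject.isColimit F).desc c)⟩

end Groth.Agent.H97.FEtGal_NT
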