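import Mathlib
import Groth.Prelude.Def_FEt
import Groth.Prelude.Def_Pi1

/-!
# (S2) for helper47's S1143 squad: a split cover gives a split algebra
-/

set_option autoImplicit false
universe u

open IsLocalRing TensorProduct AlgebraicGeometry CategoryTheory CategoryTheory.Limits

namespace Groth.Agent.H97.FEtSh

/-- Ring-level extraction: an isomorphism `Spec (ι → L) ≅ Spec (E ⊗[K] L)` all of whose
components are sections of `Spec (E ⊗[K] L) ⟶ Spec L` gives an `L`-algebra isomorphism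
`L ⊗[K] E ≃ₐ[L] (ι → L)`. -/
theorem algEquiv_of_specIso (K L E ι : Type u) [Field K] [Field L] [Algebra K L] [CommRing E]
    [Algebra K E]
    (θ : Spec (CommRingCat.of (ι → L)) ≅ Spec (CommRingCat.of (E ⊗[K] L)))
    (hθ : ∀ i : ι, Spec.map (CommRingCat.ofHom (Pi.evalRingHom (fun _ : ι => L) i)) ≫ θ.hom ≫
      Spec.map (CommRingCat.ofHom (RingHomClass.toRingHom
        (Algebra.TensorProduct.includeRight : L →ₐ[K] E ⊗[K] L))) = 𝟙 _) :
    Nonempty (L ⊗[K] E ≃ₐ[L] (ι → L)) := by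
  let gi : CommRingCat.of (E ⊗[K] L) ≅ CommRingCat.of (ι → L) :=
    { hom := Spec.preimage θ.hom
      inv := Spec.preimage θ.inv
      hom_inv_id := by rw [← Spec.preimage_comp, θ.inv_hom_id, Spec.preimage_id]
      inv_hom_id := by rw [← Spec.preimage_comp, θ.hom_inv_id, Spec.preimage_id] }
  have hlin : ∀ (i : ι) (l : L), (Spec.preimage θ.hom).hom ((1 : E) ⊗ₜ[K] l) i = l := by
    intro i l
    have h3 := hθ i
    rw [← Spec.map_preimage θ.hom, ← Spec.map_comp, ← Spec.map_comp, Spec.map_eq_id] at h3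
    have h4 := congrArg (fun φ => φ.hom l) h3
    simpa using h4
  refine ⟨AlgEquiv.ofRingEquiv
    (f := (Algebra.TensorProduct.comm K L E).toRingEquiv.trans gi.commRingCatIsoToRingEquiv) ?_⟩
  intro l
  funext i
  show (Spec.preimage θ.hom).hom
    ((Algebra.TensorProduct.comm K L E) (algebraMap L (L ⊗[K] E) l)) i = l
  rw [Algebra.TensorProduct.algebraMap_apply, Algebra.TensorProduct.comm_tmul]
  simpa using hlin i l

/-- (S2) a split cover gives a split algebra. -/
theorem algEquiv_of_isSplit (K L E : Type u) [Field K] [Field L] [Algebra K L] [CommRing E]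
    [Algebra K E] (V : FEt.Cat (Spec (CommRingCat.of K))) (e : V.left ≅ Spec (CommRingCat.of E))
    (he : e.hom ≫ Spec.map (CommRingCat.ofHom (algebraMap K E)) = V.hom)
    (hV : Pi1.IsSplit ((FEt.restrict (Spec.map (CommRingCat.ofHom (algebraMap K L)))).obj V)) :
    ∃ (ι : Type u) (_ : Finite ι), Nonempty (L ⊗[K] E ≃ₐ[L] (ι → L)) := by
  obtain ⟨ι, hι, e₀, hsec⟩ := hV
  haveI := hι
  refine ⟨ι, hι, ?_⟩
  have h1 : V.hom ≫ 𝟙 _ = e.hom ≫ Spec.map (CommRingCat.ofHom (algebraMap K E)) := by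
    rw [Category.comp_id]; exact he.symm
  have h2 : Spec.map (CommRingCat.ofHom (algebraMap K L)) ≫ 𝟙 _ =
      𝟙 _ ≫ Spec.map (CommRingCat.ofHom (algebraMap K L)) := by simp
  let pm : pullback V.hom (Spec.map (CommRingCat.ofHom (algebraMap K L))) ⟶
      pullback (Spec.map (CommRingCat.ofHom (algebraMap K E)))
        (Spec.map (CommRingCat.ofHom (algebraMap K L))) :=
    pullback.map _ _ _ _ e.hom (𝟙 _) (𝟙 _) h1 h2
  have hpm : pm ≫ pullback.snd (Spec.map (CommRingCat.ofHom (algebraMap K E)))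
      (Spec.map (CommRingCat.ofHom (algebraMap K L))) =
      pullback.snd V.hom (Spec.map (CommRingCat.ofHom (algebraMap K L))) :=
    (pullback.lift_snd _ _ _).trans (Category.comp_id _)
  obtain ⟨e₁, he₁⟩ : ∃ e₁ : (∐ fun _ : ι => Spec (CommRingCat.of L)) ≅
      pullback V.hom (Spec.map (CommRingCat.ofHom (algebraMap K L))),
      ∀ i, Sigma.ι (fun _ : ι => Spec (CommRingCat.of L)) i ≫ e₁.hom ≫
        pullback.snd V.hom (Spec.map (CommRingCat.ofHom (algebraMap K L))) = 𝟙 _ :=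
    ⟨e₀.symm, hsec⟩
  let θ : Spec (CommRingCat.of (ι → L)) ≅ Spec (CommRingCat.of (E ⊗[K] L)) :=
    (asIso (sigmaSpec (fun _ : ι => CommRingCat.of L))).symm ≪≫ e₁ ≪≫ asIso pm ≪≫
      pullbackSpecIso K E L
  refine algEquiv_of_specIso K L E ι θ (fun i => ?_)
  have h5 : Spec.map (CommRingCat.ofHom (Pi.evalRingHom (fun _ : ι => L) i)) =
      Sigma.ι (fun _ : ι => Spec (CommRingCat.of L)) i ≫
        sigmaSpec (fun _ : ι => CommRingCat.of L) :=
    (ι_sigmaSpec (fun _ : ι => CommRingCat.of L) i).symm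
  rw [h5]
  simp only [θ, Iso.trans_hom, Iso.symm_hom, asIso_inv, asIso_hom, Category.assoc,
    IsIso.hom_inv_id_assoc]
  rw [pullbackSpecIso_hom_snd, hpm]
  exact he₁ i

end Groth.Agent.H97.FEtSh
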