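import Mathlib
import Groth.Prelude.Def_CohB1
import Groth.Agent.H22.FPExt.Defs
import Groth.Agent.S9827

/-!
# helper97: (P10) `spec_case` for helper22's S2115 squad, in hypothesis form: the statements of
(P7), (P8), (P9) are the hypotheses `h7`, `h8`, `h9` (verbatim), to be discharged by the landed pieces.
-/

set_option autoImplicit false
universe u
open CategoryTheory CategoryTheory.Limits AlgebraicGeometry TopologicalSpace Opposite
open AlgebraicGeometry.Scheme.Modules
open Groth.Agent.H22.FPExt

namespace Groth.Agent.H97.FPExt_P10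

/-- (P10), hypothesis form. -/
theorem spec_case_of
    (h7 : ∀ {R : Type u} [CommRing R] (M : Type u) [AddCommGroup M] [Module R M] (s : Finset R)
      (_ : ∀ f ∈ s, Module.FinitePresentation (Localization.Away f)
        (LocalizedModule (Submonoid.powers f) M)),
      ∃ (N : Type u) (_ : AddCommGroup N) (_ : Module R N) (g : N →ₗ[R] M),
        Module.FinitePresentation R N ∧
          ∀ f ∈ s, Function.Bijective (LocalizedModule.map (Submonoid.powers f) g))
    (h8 : ∀ (R : CommRingCat.{u}) {N M : ModuleCat.{u} R} (g : N ⟶ M) (s : Finset R)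
      (_ : ∀ f ∈ s, Function.Bijective (LocalizedModule.map (Submonoid.powers f) g.hom)),
      BijOn ((tilde.functor R).map g)
        (⨆ f ∈ s, (PrimeSpectrum.basicOpen f : (Spec R).Opens)))
    (h9 : ∀ (R : CommRingCat.{u}) (F : (Spec R).Modules) [F.IsQuasicoherent]
      (W : (Spec R).Opens) (_ : IsCompact (W : Set (Spec R))) (_ : FPOn F W),
      ∃ s : Finset R, (⨆ f ∈ s, (PrimeSpectrum.basicOpen f : (Spec R).Opens)) = W ∧
        ∀ f ∈ s, Module.FinitePresentation (Localization.Away f)
          (LocalizedModule (Submonoid.powers f) ((moduleSpecΓFunctor (R := R)).obj F)))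
    (R : CommRingCat.{u}) (F : (Spec R).Modules) [F.IsQuasicoherent]
    (W : (Spec R).Opens) (hW : IsCompact (W : Set (Spec R))) (hF : FPOn F W) :
    ∃ (G : (Spec R).Modules) (φ : G ⟶ F), CohB1.IsFP G ∧ BijOn φ W := by
  obtain ⟨s, hs, hfp⟩ := h9 R F W hW hF
  have key : ∀ (M : ModuleCat.{u} R), (∀ f ∈ s, Module.FinitePresentation (Localization.Away f)
      (LocalizedModule (Submonoid.powers f) M)) →
      ∃ (N : ModuleCat.{u} R) (g : N ⟶ M), Module.FinitePresentation R N ∧
        ∀ f ∈ s, Function.Bijective (LocalizedModule.map (Submonoid.powers f) g.hom) := by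
    intro M h
    obtain ⟨N, _, _, g, hN, hg⟩ := h7 (R := R) (M := M) s h
    refine ⟨ModuleCat.of R N, ModuleCat.ofHom g, hN, fun f hf => ?_⟩
    rw [ModuleCat.hom_ofHom]
    exact hg f hf
  obtain ⟨N, g', hN, hg⟩ := key ((moduleSpecΓFunctor (R := R)).obj F) hfp
  refine ⟨(tilde.functor R).obj N, (tilde.functor R).map g' ≫ F.fromTildeΓ, ?_, ?_⟩
  · exact (Groth.Agent.S9827.result R N).mpr hN
  · rw [← hs]
    refine BijOn.comp (h8 R g' s hg) ?_
    intro O _
    have h1 : IsIso F.fromTildeΓ := inferInstance
    have h2 : IsIso (F.fromTildeΓ.app O) := inferInstance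
    exact (ConcreteCategory.isIso_iff_bijective _).mp h2

end Groth.Agent.H97.FPExt_P10
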