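import Mathlib
import Groth.Prelude.Def_SGA1

set_option autoImplicit false

universe u

open CategoryTheory CategoryTheory.Limits AlgebraicGeometry

namespace Groth.Agent.H97.FreeFlat_ALG1

open TensorProduct

/-- The "twisted multiplication" map `B ⊗[ℤ] B → B`, `a ⊗ b ↦ a * σ b`. -/
noncomputable def mu {B : Type u} [CommRing B] (τ : B →+* B) : B ⊗[ℤ] B →ₐ[ℤ] B :=
  Algebra.TensorProduct.lift (AlgHom.id ℤ B) (τ.toIntAlgHom) (fun _ _ => Commute.all _ _)

lemma mu_tmul {B : Type u} [CommRing B] (τ : B →+* B) (a b : B) :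
    mu τ (a ⊗ₜ[ℤ] b) = a * τ b := by
  simp [mu]

/-- Every element of `B ⊗ B` is a finite sum of pure tensors, uniformly in the twist. -/
lemma exists_list_repr {B : Type u} [CommRing B] (e : B ⊗[ℤ] B) :
    ∃ l : List (B × B), ∀ τ : B →+* B, mu τ e = (l.map fun p => p.1 * τ p.2).sum := by
  induction e using TensorProduct.induction_on with
  | zero => exact ⟨[], fun τ => by simp⟩
  | tmul a b => exact ⟨[(a, b)], fun τ => by simp [mu_tmul]⟩
  | add x y hx hy =>
    obtain ⟨l, hl⟩ := hx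
    obtain ⟨l', hl'⟩ := hy
    refine ⟨l ++ l', fun τ => ?_⟩
    rw [map_add, hl, hl', List.map_append, List.sum_append]

theorem exists_dual_system {B : Type u} [CommRing B] {G : Type u} [Group G] [Finite G]
    (σ : G → (B →+* B)) (hσ1 : σ 1 = RingHom.id B)
    (hfree : ∀ g : G, g ≠ 1 → Ideal.span (Set.range fun b : B => σ g b - b) = ⊤) :
    ∃ (n : ℕ) (x y : Fin n → B), (∑ j, x j * y j = 1) ∧
      ∀ h : G, h ≠ 1 → ∑ j, x j * σ h (y j) = 0 := by
  classical
  have := Fintype.ofFinite G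
  -- step 1: for each g ≠ 1 an element ε g with μ_1 ε = 1, μ_g ε = 0
  have step1 : ∀ g : G, g ≠ 1 → ∃ ε : B ⊗[ℤ] B, mu (σ 1) ε = 1 ∧ mu (σ g) ε = 0 := by
    intro g hg
    have key : ∀ z ∈ Ideal.span (Set.range fun b : B => σ g b - b),
        ∃ ε : B ⊗[ℤ] B, mu (σ 1) ε = z ∧ mu (σ g) ε = 0 := by
      intro z hz
      induction hz using Submodule.span_induction with
      | mem z hz =>
        obtain ⟨b, rfl⟩ := hz
        refine ⟨(σ g b) ⊗ₜ[ℤ] 1 - 1 ⊗ₜ[ℤ] b, ?_, ?_⟩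
        · simp [mu_tmul, hσ1]
        · simp [mu_tmul]
      | zero => exact ⟨0, by simp, by simp⟩
      | add x y _ _ hx hy =>
        obtain ⟨ε, h1, h2⟩ := hx
        obtain ⟨ε', h1', h2'⟩ := hy
        exact ⟨ε + ε', by rw [map_add, h1, h1'], by rw [map_add, h2, h2', add_zero]⟩
      | smul a x _ hx =>
        obtain ⟨ε, h1, h2⟩ := hx
        refine ⟨(a ⊗ₜ[ℤ] 1) * ε, ?_, ?_⟩
        · rw [map_mul, h1, mu_tmul, map_one, mul_one, smul_eq_mul]
        · rw [map_mul, h2, mul_zero]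
    exact key 1 (hfree g hg ▸ Submodule.mem_top)
  choose! ε hε1 hεg using step1
  -- step 2: the product
  set e : B ⊗[ℤ] B := ∏ g ∈ Finset.univ.erase (1 : G), ε g with he
  have he1 : mu (σ 1) e = 1 := by
    rw [he, map_prod]
    exact Finset.prod_eq_one fun g hg => hε1 g (Finset.ne_of_mem_erase hg)
  have heh : ∀ h : G, h ≠ 1 → mu (σ h) e = 0 := by
    intro h hh
    rw [he, map_prod]
    exact Finset.prod_eq_zero (Finset.mem_erase.mpr ⟨hh, Finset.mem_univ _⟩) (hεg h hh)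
  -- step 3: write e as a finite sum of pure tensors
  obtain ⟨l, hl⟩ := exists_list_repr e
  refine ⟨l.length, fun j => (l[j.1]).1, fun j => (l[j.1]).2, ?_, ?_⟩
  · have h1 := hl (σ 1)
    rw [he1] at h1
    rw [h1, ← Fin.sum_univ_fun_getElem l (fun p => p.1 * σ 1 p.2)]
    simp [hσ1]
  · intro h hh
    have h2 := hl (σ h)
    rw [heh h hh] at h2
    rw [h2, ← Fin.sum_univ_fun_getElem l (fun p => p.1 * σ h p.2)]

end Groth.Agent.H97.FreeFlat_ALG1
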