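import Mathlib
import Groth.Prelude.Def_FEt
import Groth.Agent.H68.GalK.Defs

/-!
# helper97: (NTb) for helper68's S0290/S0298 squad.
-/

set_option autoImplicit false
universe u
open CategoryTheory CategoryTheory.Limits AlgebraicGeometry
open Groth.Agent.H68.GalK

namespace Groth.Agent.H97.GalK_NTb

variable {K : Type u} [Field K]

theorem exists_fiber_point_of_isSeparable (a : AlgebraicClosure K) (ha : IsSeparable K a) :
    ∃ (Y : FEt.Cat (Spec (CommRingCat.of K))) (s : FEt.fiberObj (ξ K) Y),
      ∀ σ : Field.absoluteGaloisGroup K, σ • s = s → ae σ a = a := by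
  let E : IntermediateField K (AlgebraicClosure K) := IntermediateField.adjoin K {a}
  have hint : IsIntegral K a := ha.isIntegral
  have hfd : FiniteDimensional K E := IntermediateField.adjoin.finiteDimensional hint
  have hsep : Algebra.IsSeparable K E :=
    (IntermediateField.isSeparable_adjoin_simple_iff_isSeparable K (AlgebraicClosure K)).mpr ha
  have hfe : Algebra.FormallyEtale K E := Algebra.FormallyEtale.of_isSeparable K E
  have hfp : Algebra.FinitePresentation K E :=
    Algebra.FinitePresentation.of_finiteType.mp inferInstance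
  have het : Algebra.Etale K E := ⟨hfe, hfp⟩
  have hfin : IsFinite (Spec.map (CommRingCat.ofHom (algebraMap K E))) := by
    rw [IsFinite.SpecMap_iff]
    exact RingHom.finite_algebraMap.mpr hfd
  have hetale : Etale (Spec.map (CommRingCat.ofHom (algebraMap K E))) := by
    rw [HasRingHomProperty.Spec_iff (P := @Etale)]
    exact RingHom.etale_algebraMap.mpr het
  let Y : FEt.Cat (Spec (CommRingCat.of K)) :=
    MorphismProperty.Over.mk ⊤ (Spec.map (CommRingCat.ofHom (algebraMap K E))) ⟨hfin, hetale⟩
  have hs : Spec.map (CommRingCat.ofHom (algebraMap E (AlgebraicClosure K))) ≫ Y.hom = ξ K := by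
    show Spec.map (CommRingCat.ofHom (algebraMap E (AlgebraicClosure K))) ≫
      Spec.map (CommRingCat.ofHom (algebraMap K E)) = _
    rw [← Spec.map_comp, ← CommRingCat.ofHom_comp]
    exact congrArg (fun φ => Spec.map (CommRingCat.ofHom φ))
      (IsScalarTower.algebraMap_eq K E (AlgebraicClosure K)).symm
  refine ⟨Y, ⟨Spec.map (CommRingCat.ofHom (algebraMap E (AlgebraicClosure K))), hs⟩, ?_⟩
  intro σ hσ
  have h1 : specσ σ ≫ Spec.map (CommRingCat.ofHom (algebraMap E (AlgebraicClosure K))) =
      Spec.map (CommRingCat.ofHom (algebraMap E (AlgebraicClosure K))) := congrArg Subtype.val hσ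
  rw [← Spec.map_comp] at h1
  have h2 := Spec.map_injective h1
  have h3 := congrArg
    (fun φ => φ.hom (⟨a, IntermediateField.mem_adjoin_simple_self K a⟩ : E)) h2
  exact h3

end Groth.Agent.H97.GalK_NTb
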