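import Mathlib
import Groth.Prelude.Def_FEt
import Groth.Agent.H68.GalK.Defs

/-!
# helper97: (TRb) for helper68's S0290/S0298 squad — a categorically connected finite étale cover of
`Spec K` has a single point.
-/

set_option autoImplicit false
universe u
open CategoryTheory CategoryTheory.Limits AlgebraicGeometry
open Groth.Agent.H68.GalK

namespace Groth.Agent.H97.GalK_TRb

variable {K : Type u} [Field K]

theorem discreteTopology_of_isFinite {X : Scheme.{u}} (f : X ⟶ Spec (CommRingCat.of K))
    [hfin : IsFinite f] : DiscreteTopology X := by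
  have haff : IsAffine X := isAffine_of_isAffineHom f
  have h1 : (f.appTop).hom.Finite := f.finite_appTop
  have hS : IsLocallyArtinian (Spec (CommRingCat.of K)) :=
    Scheme.isLocallyArtinianScheme_Spec.mpr inferInstance
  have hA0 : IsArtinianRing Γ(Spec (CommRingCat.of K), ⊤) := inferInstance
  algebraize [(f.appTop).hom]
  have hA : IsArtinianRing Γ(X, ⊤) :=
    IsArtinianRing.of_finite Γ(Spec (CommRingCat.of K), ⊤) Γ(X, ⊤)
  have h2 : IsLocallyArtinian (Spec Γ(X, ⊤)) :=
    Scheme.isLocallyArtinianScheme_Spec.mpr hA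
  have h3 : IsLocallyArtinian X := IsLocallyArtinian.of_isImmersion X.isoSpec.hom
  infer_instance

theorem discreteTopology_left (Y : FEt.Cat (Spec (CommRingCat.of K))) :
    DiscreteTopology Y.left :=
  haveI : IsFinite (Y.hom : Y.left ⟶ Spec (CommRingCat.of K)) := Y.prop.1
  discreteTopology_of_isFinite (Y.hom : Y.left ⟶ Spec (CommRingCat.of K))

theorem clopen_prop (Y : FEt.Cat (Spec (CommRingCat.of K))) (V : Y.left.Opens)
    (hV : IsClosed (V : Set Y.left)) : FEt.prop (V.ι ≫ Y.hom) := by
  have hfin : IsFinite Y.hom := Y.prop.1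
  have het : Etale Y.hom := Y.prop.2
  have hci : IsClosedImmersion V.ι :=
    IsClosedImmersion.of_isPreimmersion V.ι (by rw [Scheme.Opens.range_ι]; exact hV)
  exact ⟨inferInstance, inferInstance⟩

/-- (TRb) -/
theorem base_eq_of_noTrivialComponent (Y : FEt.Cat (Spec (CommRingCat.of K)))
    (hconn : ∀ (Y' : FEt.Cat (Spec (CommRingCat.of K))) (i : Y' ⟶ Y), Mono i →
      (IsInitial Y' → False) → IsIso i)
    (s t : FEt.fiberObj (ξ K) Y) (x y : Spec (CommRingCat.of (AlgebraicClosure K))) :
    s.1.base x = t.1.base y := by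
  have hdisc : DiscreteTopology Y.left := discreteTopology_left Y
  let U : Y.left.Opens := ⟨{s.1.base x}, isOpen_discrete _⟩
  have hUc : IsClosed (U : Set Y.left) := isClosed_discrete _
  let E : Y.left.Opens := ⊥
  have hEc : IsClosed (E : Set Y.left) := isClosed_discrete _
  let Y' : FEt.Cat (Spec (CommRingCat.of K)) :=
    MorphismProperty.Over.mk ⊤ (U.ι ≫ Y.hom) (clopen_prop Y U hUc)
  let Y₀ : FEt.Cat (Spec (CommRingCat.of K)) :=
    MorphismProperty.Over.mk ⊤ (E.ι ≫ Y.hom) (clopen_prop Y E hEc)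
  let i : Y' ⟶ Y := MorphismProperty.Over.homMk U.ι rfl trivial
  have hmono : Mono i := by
    apply (MorphismProperty.Over.forget _ _ _ ⋙ Over.forget _).mono_of_mono_map
    show Mono U.ι
    infer_instance
  have hninit : IsInitial Y' → False := by
    intro hinit
    let φ : Y' ⟶ Y₀ := hinit.to Y₀
    have hz : (E.ι (φ.left ⟨s.1.base x, rfl⟩) : Y.left) ∈ E := (φ.left ⟨s.1.base x, rfl⟩).2
    exact hz
  have hiso : IsIso i := hconn Y' i hmono hninit
  have hiso' : IsIso U.ι :=
    (MorphismProperty.Over.forget _ _ _ ⋙ Over.forget _).map_isIso i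
  obtain ⟨z, hz⟩ := U.ι.surjective (t.1.base y)
  have hzU : (U.ι z : Y.left) ∈ U := z.2
  rw [hz] at hzU
  exact (Set.mem_singleton_iff.mp hzU).symm

end Groth.Agent.H97.GalK_TRb
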