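import Mathlib
import Groth.Agent.H46.HomCxPreDefs
import Groth.Agent.H97.HomCxPre_QE

/-!
# (CONE) for helper46's S1818 squad: `Hom•(g, J)` is a quasi-isomorphism when `Hom•(cone g, J)`
is acyclic
-/

set_option autoImplicit false
universe u

open CategoryTheory CategoryTheory.Limits
open CochainComplex.HomComplex
open CochainComplex CochainComplex.mappingCone
attribute [local instance] HasDerivedCategory.standard
open Groth.Agent.H46.HomCxPre

namespace Groth.Agent.H97.HomCxPreCONE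

variable {A : Type u} [CommRing A]

theorem δ_desc {X Y : DRing.Cx A} (g : X ⟶ Y) {J : DRing.Cx A} {m n : ℤ} (α : Cochain X J m)
    (β : Cochain Y J n) (h : m + 1 = n) (n' : ℤ) (hn' : n + 1 = n') :
    δ n n' (descCochain g α β h) =
      descCochain g (δ m n α + n'.negOnePow • (Cochain.ofHom g).comp β (zero_add n))
        (δ n n' β) hn' :=
  δ_descCochain g α β h n' hn'

theorem desc_inl_inr {X Y : DRing.Cx A} (g : X ⟶ Y) {J : DRing.Cx A} {m n : ℤ} (h : m + 1 = n)
    (w : Cochain (mappingCone g) J n) :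
    w = descCochain g ((inl g).comp w (by omega : -1 + n = m))
      ((Cochain.ofHom (inr g)).comp w (zero_add n)) h := by
  rw [ext_cochain_from_iff g m n h]
  exact ⟨(inl_descCochain g _ _ h).symm, (inr_descCochain g _ _ h).symm⟩

theorem inj_aux {X Y : DRing.Cx A} (g : X ⟶ Y) (J : DRing.Cx A)
    (hC : ∀ (n : ℤ) (z : Cochain (mappingCone g) J n), δ n (n + 1) z = 0 →
      ∃ w : Cochain (mappingCone g) J (n - 1), δ (n - 1) n w = z)
    (n : ℤ) (β : Cochain Y J n) (hβ : δ n (n + 1) β = 0) (α' : Cochain X J (n - 1))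
    (hα' : δ (n - 1) n α' = (Cochain.ofHom g).comp β (zero_add n)) :
    ∃ y : Cochain Y J (n - 1), δ (n - 1) n y = β := by
  have hγ : δ n (n + 1)
      (descCochain g (n.negOnePow • α') β (by omega : n - 1 + 1 = n)) = 0 := by
    rw [δ_descCochain g _ _ _ (n + 1) rfl, δ_units_smul, hα', hβ, Int.negOnePow_succ]
    simp [Cochain.comp_zero]
  obtain ⟨w, hw⟩ := hC n _ hγ
  refine ⟨(Cochain.ofHom (inr g)).comp w (zero_add (n - 1)), ?_⟩
  rw [δ_ofHom_comp, hw, inr_descCochain]

theorem surj_aux {X Y : DRing.Cx A} (g : X ⟶ Y) (J : DRing.Cx A)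
    (hC : ∀ (n : ℤ) (z : Cochain (mappingCone g) J n), δ n (n + 1) z = 0 →
      ∃ w : Cochain (mappingCone g) J (n - 1), δ (n - 1) n w = z)
    (n : ℤ) (α : Cochain X J n) (hα : δ n (n + 1) α = 0) :
    ∃ (z : Cochain Y J n) (y' : Cochain X J (n - 1)), δ n (n + 1) z = 0 ∧
      α = (Cochain.ofHom g).comp z (zero_add n) + δ (n - 1) n y' := by
  have hγ : δ (n + 1) (n + 1 + 1)
      (descCochain g α (0 : Cochain Y J (n + 1)) rfl) = 0 := by
    rw [δ_descCochain g _ _ _ (n + 1 + 1) rfl, hα]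
    simp [Cochain.comp_zero]
  obtain ⟨w, hw⟩ := hC (n + 1) _ hγ
  obtain ⟨w', hw'⟩ : ∃ w' : Cochain (mappingCone g) J n,
      δ n (n + 1) w' = descCochain g α (0 : Cochain Y J (n + 1)) rfl := by
    have key : ∀ (k : ℤ) (_ : k = n) (v : Cochain (mappingCone g) J k),
        δ k (n + 1) v = descCochain g α (0 : Cochain Y J (n + 1)) rfl →
        ∃ w' : Cochain (mappingCone g) J n,
          δ n (n + 1) w' = descCochain g α (0 : Cochain Y J (n + 1)) rfl := by
      clear hw w
      intro k hk v hv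
      subst hk
      exact ⟨v, hv⟩
    exact key _ (by omega) w hw
  obtain ⟨α', hα'def⟩ : ∃ α' : Cochain X J (n - 1),
      α' = (inl g).comp w' (by omega : -1 + n = n - 1) := ⟨_, rfl⟩
  obtain ⟨β', hβ'def⟩ : ∃ β' : Cochain Y J n,
      β' = (Cochain.ofHom (inr g)).comp w' (zero_add n) := ⟨_, rfl⟩
  have hdec : w' = descCochain g α' β' (by omega : n - 1 + 1 = n) := by
    rw [hα'def, hβ'def]
    exact desc_inl_inr g _ w'
  rw [hdec, δ_desc g α' β' _ (n + 1) rfl] at hw'
  have h1 := congrArg (fun γ => (inl g).comp γ (by omega : (-1 : ℤ) + (n + 1) = n)) hw'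
  have h2 := congrArg (fun γ => (Cochain.ofHom (inr g)).comp γ (zero_add (n + 1))) hw'
  simp only [inl_descCochain, inr_descCochain] at h1 h2
  refine ⟨(n + 1).negOnePow • β', α', ?_, ?_⟩
  · rw [δ_units_smul, h2, smul_zero]
  · rw [Cochain.comp_units_smul, ← h1, add_comm]

/-- (CONE) -/
theorem quasiIso_homCxPre {X Y : DRing.Cx A} (g : X ⟶ Y) (J : DRing.Cx A)
    (hC : ∀ (n : ℤ) (z : Cochain (CochainComplex.mappingCone g) J n), δ n (n + 1) z = 0 →
      ∃ w : Cochain (CochainComplex.mappingCone g) J (n - 1), δ (n - 1) n w = z) :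
    QuasiIso (homCxPre g J) := by
  apply Groth.Agent.H97.HomCxPreQE.quasiIso_of_elements
  · intro n z hz hex
    obtain ⟨y', hy'⟩ := hex
    exact inj_aux g J hC n z hz y' hy'
  · intro n z' hz'
    exact surj_aux g J hC n z' hz'

end Groth.Agent.H97.HomCxPreCONE
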