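import Mathlib

/-!
# helper97: (Pt) for helper21's S7679 squad — on a proper `k`-scheme, a non-closed point has a
specialization outside any given affine open.
-/

set_option autoImplicit false
universe u
open CategoryTheory CategoryTheory.Limits AlgebraicGeometry TopologicalSpace Opposite

namespace Groth.Agent.H97.Hyp_Pt

/-- (Pt) -/
theorem exists_specializes_not_mem (k : Type u) [Field k] (X : Scheme.{u})
    [X.Over (Spec (CommRingCat.of k))] [IsProper (X ↘ (Spec (CommRingCat.of k)))]
    (D : X.Opens) (hD : IsAffineOpen D) (y : X) (hy : ¬ IsClosed ({y} : Set X)) :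
    ∃ z : X, y ⤳ z ∧ z ∉ D := by
  by_contra hcon
  push Not at hcon
  apply hy
  have hsub : closure ({y} : Set X) ⊆ (D : Set X) :=
    fun z hz => hcon z (specializes_iff_mem_closure.mpr hz)
  have hyD : y ∈ D := hsub (subset_closure rfl)
  let py : ↥(Spec Γ(X, D)) := hD.primeIdealOf ⟨y, hyD⟩
  have hpy : hD.fromSpec py = y := hD.fromSpec_primeIdealOf ⟨y, hyD⟩
  let p : Ideal Γ(X, D) := py.asIdeal
  have : p.IsPrime := py.isPrime
  let g : Spec (CommRingCat.of (Γ(X, D) ⧸ p)) ⟶ X :=
    Spec.map (CommRingCat.ofHom (Ideal.Quotient.mk p)) ≫ hD.fromSpec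
  have hemb : Topology.IsOpenEmbedding hD.fromSpec := hD.fromSpec.isOpenEmbedding
  have hkey : hD.fromSpec '' closure {py} = closure ({y} : Set X) := by
    rw [hemb.isInducing.closure_eq_preimage_closure_image, Set.image_singleton, hpy,
      Set.image_preimage_eq_inter_range, hD.range_fromSpec]
    exact Set.inter_eq_left.mpr hsub
  have h2 : Set.range (Spec.map (CommRingCat.ofHom (Ideal.Quotient.mk p))) = closure {py} := by
    have e1 : Set.range (PrimeSpectrum.comap (Ideal.Quotient.mk p)) =
        PrimeSpectrum.zeroLocus (p : Set Γ(X, D)) := by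
      rw [range_comap_of_surjective _ _ Ideal.Quotient.mk_surjective, Ideal.mk_ker]
    have e2 : closure ({(py : PrimeSpectrum Γ(X, D))} : Set (PrimeSpectrum Γ(X, D))) =
        PrimeSpectrum.zeroLocus (p : Set Γ(X, D)) := PrimeSpectrum.closure_singleton _
    exact e1.trans e2.symm
  have hrange : Set.range g = closure ({y} : Set X) := by
    have h1 : Set.range g =
        hD.fromSpec '' Set.range (Spec.map (CommRingCat.ofHom (Ideal.Quotient.mk p))) := by
      rw [← Set.range_comp]
      rfl
    rw [h1, h2, hkey]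
  have : IsClosedImmersion (Spec.map (CommRingCat.ofHom (Ideal.Quotient.mk p))) :=
    IsClosedImmersion.spec_of_surjective _ Ideal.Quotient.mk_surjective
  have : IsPreimmersion g := inferInstance
  have : IsClosedImmersion g :=
    IsClosedImmersion.of_isPreimmersion g (hrange ▸ isClosed_closure)
  have hfield : IsField Γ(Spec (CommRingCat.of (Γ(X, D) ⧸ p)), ⊤) :=
    isField_of_universallyClosed k (g ≫ (X ↘ Spec (CommRingCat.of k)))
  have hfield' : IsField (Γ(X, D) ⧸ p) :=
    (Scheme.ΓSpecIso (CommRingCat.of (Γ(X, D) ⧸ p))).commRingCatIsoToRingEquiv.symm.toMulEquiv.isField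
      hfield
  have hmax : p.IsMaximal := Ideal.Quotient.maximal_of_isField p hfield'
  have hcl : closure ({py} : Set ↥(Spec Γ(X, D))) = {py} :=
    ((PrimeSpectrum.isClosed_singleton_iff_isMaximal py).mpr hmax).closure_eq
  rw [← closure_eq_iff_isClosed, ← hkey, hcl, Set.image_singleton, hpy]

end Groth.Agent.H97.Hyp_Pt
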