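import Mathlib
import Groth.Prelude.Def_EtMil
import Groth.Agent.H97.Milnor
import Groth.Agent.S6916

/-!
Glueing of modules over a square of rings `B' → B ×_A A'` that is only *surjective* onto the fibre
product (this covers the base change of a Milnor square along an arbitrary `B' → D'`), and
finiteness of the glued module.
-/

set_option autoImplicit false
set_option linter.style.haveILetI false
set_option linter.unusedSectionVars false

universe u

open TensorProduct

namespace Groth.Agent.H97.Milnor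

section surj

variable (B' B A' A : Type u) [CommRing B'] [CommRing B] [CommRing A'] [CommRing A]
  [Algebra B' B] [Algebra B' A'] [Algebra B A] [Algebra A' A]

/-- `A' → A` is surjective and `B' → B ×_A A'` is surjective. -/
def IsSurjSquare : Prop :=
  Function.Surjective (algebraMap A' A) ∧
  ∀ (b : B) (a' : A'), algebraMap B A b = algebraMap A' A a' →
    ∃ b' : B', algebraMap B' B b' = b ∧ algebraMap B' A' b' = a'

variable {B' B A' A}

omit [Algebra B' B] [Algebra B' A'] [Algebra B A] [Algebra A' A] in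
theorem _root_.EtMil.IsFibreSquare.isSurjSquare [Algebra B' B] [Algebra B' A'] [Algebra B A]
    [Algebra A' A] [Algebra B' A] [IsScalarTower B' B A] [IsScalarTower B' A' A]
    (hsq : EtMil.IsFibreSquare B' B A' A) : IsSurjSquare B' B A' A :=
  ⟨hsq.1, fun b a' h => (hsq.2 b a' h).exists⟩

theorem IsSurjSquare.surj (hs : IsSurjSquare B' B A' A) :
    Function.Surjective (algebraMap B' B) := by
  intro b
  obtain ⟨a', ha'⟩ := hs.1 (algebraMap B A b)
  obtain ⟨b', h1, -⟩ := hs.2 b a' ha'.symm
  exact ⟨b', h1⟩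

theorem IsSurjSquare.exists_of_mem_ker (hs : IsSurjSquare B' B A' A) (a' : A')
    (ha : algebraMap A' A a' = 0) :
    ∃ j : B', algebraMap B' B j = 0 ∧ algebraMap B' A' j = a' :=
  hs.2 0 a' (by rw [map_zero, ha])

end surj

section main

variable {B' B A' A : Type u} [CommRing B'] [CommRing B] [CommRing A'] [CommRing A]
  [Algebra B' B] [Algebra B' A'] [Algebra B A] [Algebra A' A] [Algebra B' A]
  [IsScalarTower B' B A] [IsScalarTower B' A' A]
  {N M' : Type u} [AddCommGroup N] [Module B N] [Module B' N] [IsScalarTower B' B N]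
  [AddCommGroup M'] [Module A' M'] [Module B' M'] [IsScalarTower B' A' M']
  {G : Type*} [AddCommGroup G] [Module B' G]
  {φ : A ⊗[B] N ≃ₗ[A] A ⊗[A'] M'} {p₁ : G →ₗ[B'] N} {p₂ : G →ₗ[B'] M'}

lemma IsGlue.exists_fst' (hs : IsSurjSquare B' B A' A) (h : IsGlue φ p₁ p₂) (n : N) :
    ∃ g : G, p₁ g = n := by
  obtain ⟨m', hm'⟩ := exists_one_tmul hs.1 (φ ((1 : A) ⊗ₜ[B] n))
  obtain ⟨g, hg, -⟩ := (h.img n m').1 hm'.symm
  exact ⟨g, hg⟩

/-- `A' ⊗ G → M'` is surjective. -/
theorem IsGlue.snd_surjective' (hs : IsSurjSquare B' B A' A) (h : IsGlue φ p₁ p₂) :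
    Function.Surjective (LinearMap.liftBaseChange A' p₂) := by
  have key : ∀ w : A ⊗[B] N, ∃ x : A' ⊗[B'] G,
      (1 : A) ⊗ₜ[A'] (LinearMap.liftBaseChange A' p₂ x) = φ w := by
    intro w
    induction w using TensorProduct.induction_on with
    | zero => exact ⟨0, by rw [map_zero, map_zero, TensorProduct.tmul_zero]⟩
    | tmul a n =>
      obtain ⟨a', rfl⟩ := hs.1 a
      obtain ⟨g, rfl⟩ := h.exists_fst' hs n
      refine ⟨a' ⊗ₜ g, ?_⟩
      have h1 : (algebraMap A' A a') ⊗ₜ[B] p₁ g =
          (algebraMap A' A a') • ((1 : A) ⊗ₜ[B] p₁ g) := by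
        rw [TensorProduct.smul_tmul', smul_eq_mul, mul_one]
      rw [LinearMap.liftBaseChange_tmul, TensorProduct.tmul_smul, TensorProduct.smul_tmul',
        Algebra.smul_def, mul_one, h1, map_smul, h.compat, TensorProduct.smul_tmul',
        smul_eq_mul, mul_one]
    | add x y hx hy =>
      obtain ⟨a, ha⟩ := hx
      obtain ⟨b, hb⟩ := hy
      exact ⟨a + b, by rw [map_add, TensorProduct.tmul_add, ha, hb, map_add]⟩
  intro m'
  obtain ⟨x, hx⟩ := key (φ.symm ((1 : A) ⊗ₜ[A'] m'))
  rw [LinearEquiv.apply_symm_apply] at hx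
  have hk : (1 : A) ⊗ₜ[A'] (m' - LinearMap.liftBaseChange A' p₂ x) = 0 := by
    rw [TensorProduct.tmul_sub, hx, sub_self]
  obtain ⟨g, -, hg⟩ := h.exists_snd _ hk
  refine ⟨x + (1 : A') ⊗ₜ g, ?_⟩
  rw [map_add, LinearMap.liftBaseChange_tmul, one_smul, hg]
  abel

/-- The glued module of two finite modules is finite. -/
theorem IsGlue.finite_of_surjSquare (hs : IsSurjSquare B' B A' A) (h : IsGlue φ p₁ p₂)
    [Module.Finite B N] [Module.Finite A' M'] : Module.Finite B' G := by
  classical
  obtain ⟨sN, hsN⟩ := (Module.finite_def (R := B) (M := N)).mp inferInstance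
  choose u hu using h.exists_fst' hs
  have htop : Submodule.span A' (Set.range p₂) = ⊤ := by
    rw [eq_top_iff]
    rintro m' -
    obtain ⟨x, rfl⟩ := h.snd_surjective' hs m'
    induction x using TensorProduct.induction_on with
    | zero => rw [map_zero]; exact Submodule.zero_mem _
    | tmul a g =>
      rw [LinearMap.liftBaseChange_tmul]
      exact Submodule.smul_mem _ _ (Submodule.subset_span ⟨g, rfl⟩)
    | add x y hx hy => rw [map_add]; exact Submodule.add_mem _ hx hy
  have hfg : (Submodule.span A' (Set.range p₂)).FG := by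
    rw [htop]
    exact (Module.finite_def (R := A') (M := M')).mp inferInstance
  obtain ⟨sM, hsM1, hsM2⟩ := (Submodule.fg_span_iff_fg_span_finset_subset _).mp hfg
  have hsM : Submodule.span A' (sM : Set M') = ⊤ := by rw [← hsM2, htop]
  have hsM1' : ∀ m : M', m ∈ sM → ∃ g : G, p₂ g = m := fun m hm => hsM1 (Finset.mem_coe.mpr hm)
  choose! v hv using hsM1'
  let L : Submodule B' G := Submodule.span B' (u '' (sN : Set N) ∪ v '' (sM : Set M'))
  have hLfg : L.FG :=
    Submodule.fg_span (((Finset.finite_toSet sN).image u).union ((Finset.finite_toSet sM).image v))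
  have stepA : ∀ n : N, ∃ g ∈ L, p₁ g = n := by
    intro n
    have hn : n ∈ Submodule.span B (sN : Set N) := by rw [hsN]; exact Submodule.mem_top
    induction hn using Submodule.span_induction with
    | mem x hx => exact ⟨u x, Submodule.subset_span (Or.inl ⟨x, hx, rfl⟩), hu x⟩
    | zero => exact ⟨0, L.zero_mem, map_zero _⟩
    | add x y _ _ hx hy =>
      obtain ⟨gx, hgx, rfl⟩ := hx
      obtain ⟨gy, hgy, rfl⟩ := hy
      exact ⟨gx + gy, L.add_mem hgx hgy, map_add _ _ _⟩
    | smul b x _ hx =>
      obtain ⟨gx, hgx, rfl⟩ := hx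
      obtain ⟨b', rfl⟩ := hs.surj b
      exact ⟨b' • gx, L.smul_mem b' hgx, by rw [map_smul, IsScalarTower.algebraMap_smul]⟩
  have stepB : ∀ m' : M', ∀ i : A', algebraMap A' A i = 0 →
      ∃ g ∈ L, p₁ g = 0 ∧ p₂ g = i • m' := by
    intro m'
    have hm : m' ∈ Submodule.span A' (sM : Set M') := by rw [hsM]; exact Submodule.mem_top
    induction hm using Submodule.span_induction with
    | mem x hx =>
      intro i hi
      obtain ⟨j, hj1, hj2⟩ := hs.exists_of_mem_ker i hi
      refine ⟨j • v x, L.smul_mem j (Submodule.subset_span (Or.inr ⟨x, hx, rfl⟩)),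
        fst_smul_eq_zero p₁ j hj1 _, ?_⟩
      rw [snd_smul_eq (A' := A') p₂ j (v x), hj2, hv x (Finset.mem_coe.mp hx)]
    | zero =>
      intro i _
      exact ⟨0, L.zero_mem, map_zero _, by rw [map_zero, smul_zero]⟩
    | add x y _ _ hx hy =>
      intro i hi
      obtain ⟨gx, hgx, hx1, hx2⟩ := hx i hi
      obtain ⟨gy, hgy, hy1, hy2⟩ := hy i hi
      exact ⟨gx + gy, L.add_mem hgx hgy, by rw [map_add, hx1, hy1, add_zero],
        by rw [map_add, hx2, hy2, smul_add]⟩
    | smul a x _ hx =>
      intro i hi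
      obtain ⟨g, hg, h1, h2⟩ := hx (i * a) (by rw [map_mul, hi, zero_mul])
      exact ⟨g, hg, h1, by rw [h2, mul_smul]⟩
  have hL : L = ⊤ := by
    rw [eq_top_iff]
    intro ξ _
    obtain ⟨g₁, hg₁, h1⟩ := stepA (p₁ ξ)
    have h0 : p₁ (ξ - g₁) = 0 := by rw [map_sub, h1, sub_self]
    have hk : (1 : A) ⊗ₜ[A'] p₂ (ξ - g₁) = 0 := by
      rw [← h.compat, h0, TensorProduct.tmul_zero, map_zero]
    have hmem := mem_ker_smul_top hs.1 _ hk
    have key : ∀ m ∈ RingHom.ker (algebraMap A' A) • (⊤ : Submodule A' M'),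
        ∃ g ∈ L, p₁ g = 0 ∧ p₂ g = m := by
      intro m hm
      refine Submodule.smul_induction_on hm
        (fun i hi m _ => stepB m i (RingHom.mem_ker.mp hi)) ?_
      rintro x y ⟨gx, hgx, hx1, hx2⟩ ⟨gy, hgy, hy1, hy2⟩
      exact ⟨gx + gy, L.add_mem hgx hgy, by rw [map_add, hx1, hy1, add_zero],
        by rw [map_add, hx2, hy2]⟩
    obtain ⟨g₂, hg₂, h21, h22⟩ := key _ hmem
    have hz : ξ - g₁ - g₂ = 0 :=
      h.inj _ (by rw [map_sub, h0, h21, sub_zero]) (by rw [map_sub, h22, sub_self])
    have hξ : ξ = g₁ + g₂ := by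
      rw [sub_sub, sub_eq_zero] at hz
      exact hz
    rw [hξ]
    exact L.add_mem hg₁ hg₂
  rw [Module.finite_def, ← hL]
  exact hLfg

end main

section relative

/-- The base change of a Milnor square along `B' → D'` is a surjective square. -/
theorem isSurjSquare_of_pushout (B' B A' A : Type u) [CommRing B'] [CommRing B] [CommRing A']
    [CommRing A] [Algebra B' B] [Algebra B' A'] [Algebra B A] [Algebra A' A] [Algebra B' A]
    [IsScalarTower B' B A] [IsScalarTower B' A' A]
    (hsq : EtMil.IsFibreSquare B' B A' A)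
    (D' D C' C : Type u) [CommRing D'] [CommRing D] [CommRing C'] [CommRing C]
    [Algebra B' D'] [Algebra B D] [Algebra A' C'] [Algebra A C]
    [Algebra D' D] [Algebra B' D] [IsScalarTower B' B D] [IsScalarTower B' D' D]
    [Algebra.IsPushout B' B D' D]
    [Algebra D' C'] [Algebra B' C'] [IsScalarTower B' A' C'] [IsScalarTower B' D' C']
    [Algebra.IsPushout B' A' D' C']
    [Algebra D' C] [Algebra B' C] [IsScalarTower B' A C] [IsScalarTower B' D' C]
    [Algebra.IsPushout B' A D' C]
    [Algebra D C] [IsScalarTower D' D C] [Algebra B C] [IsScalarTower B A C] [IsScalarTower B D C]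
    [Algebra C' C] [IsScalarTower D' C' C] [Algebra A' C] [IsScalarTower A' A C]
    [IsScalarTower A' C' C] : IsSurjSquare D' D C' C := by
  let eD := Algebra.IsPushout.equiv B' B D' D
  let eC' := Algebra.IsPushout.equiv B' A' D' C'
  let eC := Algebra.IsPushout.equiv B' A D' C
  have hα : ∀ x : B ⊗[B'] D',
      eC ((IsScalarTower.toAlgHom B' B A).toLinearMap.rTensor D' x) = algebraMap D C (eD x) := by
    intro x
    induction x using TensorProduct.induction_on with
    | zero => simp only [map_zero]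
    | tmul b d' =>
      have e1 : (IsScalarTower.toAlgHom B' B A).toLinearMap.rTensor D' (b ⊗ₜ[B'] d') =
          (algebraMap B A b) ⊗ₜ[B'] d' := rfl
      rw [e1]
      simp only [eC, eD]
      rw [Algebra.IsPushout.equiv_tmul, Algebra.IsPushout.equiv_tmul, map_mul,
        ← IsScalarTower.algebraMap_apply B A C, ← IsScalarTower.algebraMap_apply B D C,
        ← IsScalarTower.algebraMap_apply D' D C]
    | add x y hx hy => simp only [map_add, hx, hy]
  have hβ : ∀ y : A' ⊗[B'] D',
      eC ((IsScalarTower.toAlgHom B' A' A).toLinearMap.rTensor D' y) =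
        algebraMap C' C (eC' y) := by
    intro y
    induction y using TensorProduct.induction_on with
    | zero => simp only [map_zero]
    | tmul a d' =>
      have e1 : (IsScalarTower.toAlgHom B' A' A).toLinearMap.rTensor D' (a ⊗ₜ[B'] d') =
          (algebraMap A' A a) ⊗ₜ[B'] d' := rfl
      rw [e1]
      simp only [eC, eC']
      rw [Algebra.IsPushout.equiv_tmul, Algebra.IsPushout.equiv_tmul, map_mul,
        ← IsScalarTower.algebraMap_apply A' A C, ← IsScalarTower.algebraMap_apply A' C' C,
        ← IsScalarTower.algebraMap_apply D' C' C]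
    | add x y hx hy => simp only [map_add, hx, hy]
  refine ⟨?_, ?_⟩
  · intro c
    obtain ⟨z, rfl⟩ := eC.surjective c
    have hsurj : Function.Surjective (IsScalarTower.toAlgHom B' A' A).toLinearMap := hsq.1
    obtain ⟨y, rfl⟩ := LinearMap.rTensor_surjective D' hsurj z
    exact ⟨eC' y, (hβ y).symm⟩
  · intro d c' hdc
    obtain ⟨l, hl1, hl2⟩ := Groth.Agent.S6916.result B' B A' A hsq D' (eD.symm d) (eC'.symm c')
      (by
        apply eC.injective
        rw [hα, hβ, AlgEquiv.apply_symm_apply, AlgEquiv.apply_symm_apply, hdc])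
    refine ⟨l, ?_, ?_⟩
    · have h1 := congrArg eD hl1
      rw [AlgEquiv.apply_symm_apply] at h1
      rw [← h1]
      simp only [eD]
      rw [Algebra.IsPushout.equiv_tmul, map_one, one_mul]
    · have h2 := congrArg eC' hl2
      rw [AlgEquiv.apply_symm_apply] at h2
      rw [← h2]
      simp only [eC']
      rw [Algebra.IsPushout.equiv_tmul, map_one, one_mul]

end relative

end Groth.Agent.H97.Milnor
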