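import Mathlib

/-!
# helper97: (Dcore) for helper85's S3220 squad — flat descent of "generated by one
nonzerodivisor", locally at a prime.

Route: no local rings, no faithful flatness.  The elementwise *flat colon lemma*
`mem_map_ann_of_tmul_eq_zero` (tensor the exact sequence `0 → ann(n₁..n_r) → A → N^r` with the flat
`B`) shows that the unit-at-`𝔮` cofactor `u` lies in `((a₁) : I)·B` and in `ann(ann(a₁))·B`, so
both ideals of `A` contain elements outside `𝔮 ∩ A`; inverting their product works.
-/

set_option autoImplicit false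
universe u
open TensorProduct

namespace Groth.Agent.H97.RelDiv_Dcore

/-- flat colon lemma, elementwise. -/
theorem mem_map_ann_of_tmul_eq_zero {A B N : Type u} [CommRing A] [CommRing B] [Algebra A B]
    [Module.Flat A B] [AddCommGroup N] [Module A N] {r : ℕ} (n : Fin r → N) (u : B)
    (h : ∀ i, u ⊗ₜ[A] n i = (0 : B ⊗[A] N)) :
    ∃ K : Ideal A, (∀ x ∈ K, ∀ i, x • n i = 0) ∧ u ∈ K.map (algebraMap A B) := by
  classical
  let ψ : A →ₗ[A] (Fin r → N) := LinearMap.pi (fun i => LinearMap.toSpanSingleton A N (n i))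
  have hψ : ∀ x i, ψ x i = x • n i := fun x i => rfl
  let K : Ideal A := LinearMap.ker ψ
  refine ⟨K, fun x hx i => ?_, ?_⟩
  · have : ψ x = 0 := hx
    rw [← hψ, this]
    rfl
  have hex : Function.Exact (K.subtype.lTensor B) (ψ.lTensor B) :=
    Module.Flat.lTensor_exact B (LinearMap.exact_subtype_ker_map ψ)
  have h1 : (ψ.lTensor B) (u ⊗ₜ[A] (1 : A)) = 0 := by
    rw [LinearMap.lTensor_tmul]
    have e : ψ 1 = ∑ i, Pi.single i (n i) := by
      rw [Finset.univ_sum_single]
      funext i
      rw [hψ, one_smul]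
    rw [e, TensorProduct.tmul_sum]
    refine Finset.sum_eq_zero fun i _ => ?_
    have : u ⊗ₜ[A] (Pi.single i (n i) : Fin r → N) =
        (LinearMap.lTensor B (LinearMap.single A (fun _ : Fin r => N) i)) (u ⊗ₜ[A] n i) := by
      rw [LinearMap.lTensor_tmul]
      rfl
    rw [this, h i, map_zero]
  obtain ⟨w, hw⟩ := (hex _).mp h1
  have hrid : ∀ w : B ⊗[A] K, (TensorProduct.rid A B) ((K.subtype.lTensor B) w) ∈
      K.map (algebraMap A B) := by
    intro w
    induction w using TensorProduct.induction_on with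
    | zero => simp
    | tmul y k =>
      rw [LinearMap.lTensor_tmul, TensorProduct.rid_tmul, Submodule.subtype_apply,
        Algebra.smul_def]
      exact Ideal.mul_mem_right _ _ (Ideal.mem_map_of_mem _ k.2)
    | add w₁ w₂ h₁ h₂ =>
      rw [map_add, map_add]
      exact Ideal.add_mem _ h₁ h₂
  have := hrid w
  rw [hw, TensorProduct.rid_tmul, one_smul] at this
  exact this

/-- an ideal whose extension contains an element outside `𝔮` has an element outside `𝔮 ∩ A`. -/
theorem exists_notMem_comap {A B : Type u} [CommRing A] [CommRing B] [Algebra A B] (K : Ideal A)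
    (𝔮 : Ideal B) (u : B) (hu : u ∈ K.map (algebraMap A B)) (hu' : u ∉ 𝔮) :
    ∃ g ∈ K, g ∉ 𝔮.comap (algebraMap A B) := by
  by_contra hcon
  push Not at hcon
  exact hu' (Ideal.map_le_iff_le_comap.mpr (fun g hg => hcon g hg) hu)

/-- (Dcore) -/
theorem exists_away_principal_nzd {A B : Type u} [CommRing A] [CommRing B] [IsNoetherianRing A]
    [Algebra A B] [Module.Flat A B] (I : Ideal A) (b : B) (hb : b ∈ nonZeroDivisors B)
    (hI : I.map (algebraMap A B) = Ideal.span {b}) (𝔮 : Ideal B) [𝔮.IsPrime] :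
    ∃ g : A, g ∉ 𝔮.comap (algebraMap A B) ∧ ∃ a' : Localization.Away g,
      a' ∈ nonZeroDivisors (Localization.Away g) ∧
        I.map (algebraMap A (Localization.Away g)) = Ideal.span {a'} := by
  classical
  have hbz : ∀ x : B, x * b = 0 → x = 0 := mem_nonZeroDivisors_iff_right.mp hb
  -- generators of `I`
  obtain ⟨r, a, ha⟩ := Submodule.fg_iff_exists_fin_generating_family.mp
    (IsNoetherian.noetherian I)
  have ha' : Ideal.span (Set.range a) = I := ha
  have haI : ∀ i, a i ∈ I := fun i => by
    rw [← ha']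
    exact Ideal.subset_span ⟨i, rfl⟩
  -- cofactors
  have hu : ∀ i, ∃ ui : B, ui * b = algebraMap A B (a i) := fun i =>
    Ideal.mem_span_singleton'.mp (hI ▸ Ideal.mem_map_of_mem _ (haI i))
  choose uu huu using hu
  -- `b` as a combination
  have hbmem : b ∈ Ideal.span (Set.range (fun i => algebraMap A B (a i))) := by
    have h1 : b ∈ I.map (algebraMap A B) := hI ▸ Ideal.subset_span rfl
    rw [← ha', Ideal.map_span, ← Set.range_comp] at h1
    exact h1
  obtain ⟨β, hβ⟩ := Ideal.mem_span_range_iff_exists_fun.mp hbmem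
  have hone : ∑ i, β i * uu i = 1 := by
    have : (∑ i, β i * uu i - 1) * b = 0 := by
      rw [sub_mul, Finset.sum_mul, one_mul]
      rw [sub_eq_zero]
      conv_rhs => rw [← hβ]
      refine Finset.sum_congr rfl fun i _ => ?_
      rw [mul_assoc, huu i]
    exact sub_eq_zero.mp (hbz _ this)
  obtain ⟨i₀, hi₀⟩ : ∃ i, uu i ∉ 𝔮 := by
    by_contra hcon
    push Not at hcon
    have : (1 : B) ∈ 𝔮 := by
      rw [← hone]
      exact Ideal.sum_mem _ fun i _ => Ideal.mul_mem_left _ _ (hcon i)
    exact (Ideal.IsPrime.ne_top ‹_›) ((Ideal.eq_top_iff_one _).mpr this)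
  -- Claim 1: some `g ∉ p` with `g • I ⊆ (a i₀)`
  obtain ⟨K₁, hK₁, huK₁⟩ := mem_map_ann_of_tmul_eq_zero (A := A) (B := B)
    (N := A ⧸ Ideal.span {a i₀}) (fun i => Ideal.Quotient.mk _ (a i)) (uu i₀) (by
      intro i
      have e1 : (Ideal.Quotient.mk (Ideal.span {a i₀})) (a i) =
          a i • (Ideal.Quotient.mk (Ideal.span {a i₀})) 1 := by
        rw [Algebra.smul_def, Ideal.Quotient.algebraMap_eq, map_one, mul_one]
      rw [e1, ← TensorProduct.smul_tmul, Algebra.smul_def, ← huu i,
        show uu i * b * uu i₀ = algebraMap A B (a i₀) * uu i from by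
          rw [← huu i₀]; ring,
        ← Algebra.smul_def, TensorProduct.smul_tmul]
      have e2 : a i₀ • (Ideal.Quotient.mk (Ideal.span {a i₀})) 1 = 0 := by
        rw [Algebra.smul_def, Ideal.Quotient.algebraMap_eq, map_one, mul_one,
          Ideal.Quotient.eq_zero_iff_mem]
        exact Ideal.subset_span rfl
      rw [e2, TensorProduct.tmul_zero])
  obtain ⟨g, hgK, hgp⟩ := exists_notMem_comap K₁ 𝔮 (uu i₀) huK₁ hi₀
  have hg1 : ∀ x ∈ I, g * x ∈ Ideal.span {a i₀} := by
    have hgi : ∀ i, g * a i ∈ Ideal.span {a i₀} := by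
      intro i
      have := hK₁ g hgK i
      rw [← Ideal.Quotient.eq_zero_iff_mem, map_mul]
      exact this
    intro x hx
    rw [← ha'] at hx
    refine Submodule.span_induction ?_ ?_ ?_ ?_ hx
    · rintro _ ⟨i, rfl⟩
      exact hgi i
    · rw [mul_zero]
      exact Ideal.zero_mem _
    · intro x y _ _ hx hy
      rw [mul_add]
      exact Ideal.add_mem _ hx hy
    · intro c x _ hx
      rw [smul_eq_mul, mul_left_comm]
      exact Ideal.mul_mem_left _ _ hx
  -- Claim 2: some `g' ∉ p` with `g' • ann(a i₀) = 0`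
  let Kann : Ideal A := LinearMap.ker (LinearMap.toSpanSingleton A A (a i₀))
  have hKann : ∀ c, c ∈ Kann ↔ c * a i₀ = 0 := fun c => by
    show (LinearMap.toSpanSingleton A A (a i₀)) c = 0 ↔ _
    rw [LinearMap.toSpanSingleton_apply, smul_eq_mul]
  obtain ⟨k, c, hc⟩ := Submodule.fg_iff_exists_fin_generating_family.mp
    (IsNoetherian.noetherian Kann)
  have hc' : Ideal.span (Set.range c) = Kann := hc
  have hcK : ∀ l, c l * a i₀ = 0 := fun l => by
    rw [← hKann, ← hc']
    exact Ideal.subset_span ⟨l, rfl⟩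
  obtain ⟨K₂, hK₂, huK₂⟩ := mem_map_ann_of_tmul_eq_zero (A := A) (B := B) (N := A) c (uu i₀) (by
      intro l
      have e1 : c l = c l • (1 : A) := by rw [smul_eq_mul, mul_one]
      rw [e1, ← TensorProduct.smul_tmul, Algebra.smul_def]
      have : algebraMap A B (c l) * uu i₀ = 0 := by
        apply hbz
        rw [mul_assoc, huu i₀, ← map_mul, hcK l, map_zero]
      rw [this, TensorProduct.zero_tmul])
  obtain ⟨g', hg'K, hg'p⟩ := exists_notMem_comap K₂ 𝔮 (uu i₀) huK₂ hi₀
  have hg2 : ∀ y : A, y * a i₀ = 0 → g' * y = 0 := by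
    intro y hy
    have hyK : y ∈ Ideal.span (Set.range c) := by
      rw [hc', hKann]
      exact hy
    refine Submodule.span_induction ?_ ?_ ?_ ?_ hyK
    · rintro _ ⟨l, rfl⟩
      have := hK₂ g' hg'K l
      rw [smul_eq_mul] at this
      exact this
    · rw [mul_zero]
    · intro x y _ _ hx hy
      rw [mul_add, hx, hy, add_zero]
    · intro d x _ hx
      rw [smul_eq_mul, mul_left_comm, hx, mul_zero]
  -- assembly
  have hprime : (𝔮.comap (algebraMap A B)).IsPrime := inferInstance
  refine ⟨g * g', fun hmem => ?_, algebraMap A _ (a i₀), ?_, ?_⟩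
  · rcases hprime.mem_or_mem hmem with h | h
    · exact hgp h
    · exact hg'p h
  · -- nonzerodivisor
    rw [mem_nonZeroDivisors_iff_right]
    intro z hz
    obtain ⟨x, s, rfl⟩ := IsLocalization.exists_mk'_eq (Submonoid.powers (g * g')) z
    rw [← IsLocalization.mk'_one (M := Submonoid.powers (g * g')) (Localization.Away (g * g'))
      (a i₀), ← IsLocalization.mk'_mul, IsLocalization.mk'_eq_zero_iff] at hz
    obtain ⟨m, hm⟩ := hz
    rw [IsLocalization.mk'_eq_zero_iff]
    refine ⟨⟨g * g', Submonoid.mem_powers _⟩ * m, ?_⟩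
    have h3 : g' * ((m : A) * x) = 0 := hg2 _ (by rw [mul_assoc]; exact hm)
    show g * g' * (m : A) * x = 0
    rw [mul_assoc g, mul_assoc g, mul_assoc g', h3, mul_zero]
  · -- generation
    apply le_antisymm
    · rw [Ideal.map_le_iff_le_comap]
      intro x hx
      rw [Ideal.mem_comap]
      obtain ⟨d, hd⟩ := Ideal.mem_span_singleton'.mp (hg1 x hx)
      have hunit : IsUnit (algebraMap A (Localization.Away (g * g')) g) := by
        have := IsLocalization.Away.algebraMap_isUnit (S := Localization.Away (g * g')) (g * g')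
        rw [map_mul] at this
        exact isUnit_of_mul_isUnit_left this
      obtain ⟨v, hv⟩ := hunit.exists_left_inv
      rw [Ideal.mem_span_singleton']
      refine ⟨v * algebraMap A _ d, ?_⟩
      rw [mul_assoc, ← map_mul, hd, map_mul, ← mul_assoc, hv, one_mul]
    · rw [Ideal.span_le, Set.singleton_subset_iff]
      exact Ideal.mem_map_of_mem _ (haI i₀)

end Groth.Agent.H97.RelDiv_Dcore
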