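import Mathlib
import Groth.Agent.H28.PerfTor4
import Groth.Agent.H28.StalkFlatAmp
import Groth.Agent.H8.FlatExact
import Groth.Agent.H8.QCohStalk
import Groth.Agent.H45.FpqcFlatDescent
import Groth.Prelude.Def_DCoh3

/-!
# Flatness over a base for arbitrary `O_X`-modules: exact sequences, opcycles, restriction
(helper97 library; relative analogue of helper28's `PerfTor`, `PerfTor2`)
-/

set_option autoImplicit false
set_option maxHeartbeats 400000
universe u
open CategoryTheory CategoryTheory.Limits AlgebraicGeometry HomologicalComplex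
attribute [local instance] HasDerivedCategory.standard

namespace Groth.Agent.H97.RelFlatLib

open Groth.Agent.H28.StalkTor CochainComplex

section Basic

variable {X S : Scheme.{u}} (g : X ⟶ S)

/-- In a short exact sequence with right term flat over the base, the middle term is flat over
the base iff the left one is (no quasi-coherence needed: stalkwise). -/
theorem flatOver_iff_of_shortExact (T : ShortComplex X.Modules) (hT : T.ShortExact)
    (h₃ : FlatMod.IsFlatOver g T.X₃) :
    FlatMod.IsFlatOver g T.X₂ ↔ FlatMod.IsFlatOver g T.X₁ := by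
  have key : ∀ x : X, FlatMod.IsFlatOverAt g T.X₂ x ↔ FlatMod.IsFlatOverAt g T.X₁ x := by
    intro x
    have hT' : (T.map (DerSch.stalkOver g x)).ShortExact := hT.map_of_exact (DerSch.stalkOver g x)
    have hinj := hT'.moduleCat_injective_f
    have hsurj := hT'.moduleCat_surjective_g
    have hex := (ShortComplex.ShortExact.moduleCat_exact_iff_function_exact _).1 hT'.exact
    have h3' : Module.Flat (S.presheaf.stalk (g.base x)) ((T.map (DerSch.stalkOver g x)).X₃) := h₃ x
    have key2 : Module.Flat (S.presheaf.stalk (g.base x)) ((T.map (DerSch.stalkOver g x)).X₂) ↔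
        Module.Flat (S.presheaf.stalk (g.base x)) ((T.map (DerSch.stalkOver g x)).X₁) :=
      Groth.Agent.H8.flat_iff_of_exact_of_flat (T.map (DerSch.stalkOver g x)).f.hom
        (T.map (DerSch.stalkOver g x)).g.hom hinj hsurj hex
    exact key2
  exact ⟨fun h x => (key x).1 (h x), fun h x => (key x).2 (h x)⟩

theorem flatOver_of_iso {M N : X.Modules} (e : M ≅ N) (h : FlatMod.IsFlatOver g M) :
    FlatMod.IsFlatOver g N :=
  fun x => Groth.Agent.H45.FpqcFlatDescent.isFlatOverAt_of_iso g e x (h x)

theorem flatOver_of_isZero {M : X.Modules} (hM : IsZero M) : FlatMod.IsFlatOver g M := by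
  intro x
  have hz : IsZero ((DerSch.stalkOver g x).obj M) := Functor.map_isZero _ hM
  have : Subsingleton ((DerSch.stalkOver g x).obj M) := ModuleCat.subsingleton_of_isZero hz
  exact (inferInstance : Module.Flat (S.presheaf.stalk (g.base x)) ((DerSch.stalkOver g x).obj M))

theorem flatOver_biprod {M N : X.Modules} (hM : FlatMod.IsFlatOver g M)
    (hN : FlatMod.IsFlatOver g N) : FlatMod.IsFlatOver g (M ⊞ N) :=
  (flatOver_iff_of_shortExact g _ (ShortComplex.Splitting.ofHasBinaryBiproduct M N).shortExact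
    hN).2 hM

theorem flatOver_of_isFlat [Flat g] (M : X.Modules) (hM : FlatMod.IsFlat M) :
    FlatMod.IsFlatOver g M :=
  fun x => Groth.Agent.H28.StalkTor.flat_stalkOver g x M hM

theorem flatOver_congr {g g' : X ⟶ S} (h : g = g') {M : X.Modules}
    (hM : FlatMod.IsFlatOver g M) : FlatMod.IsFlatOver g' M := h ▸ hM

/-- If `C` is bounded above, has terms flat over the base in degrees `> m`, and is exact in
degrees `≥ m`, then `opcycles j` is flat over the base for all `j ≥ m`. -/
theorem flatOver_opcycles (C : CochainComplex X.Modules ℤ) (N m : ℤ)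
    (hN : ∀ j : ℤ, N < j → IsZero (C.X j)) (hfl : ∀ j : ℤ, m < j → FlatMod.IsFlatOver g (C.X j))
    (hex : ∀ j : ℤ, m ≤ j → C.ExactAt j) (j : ℤ) (hj : m ≤ j) :
    FlatMod.IsFlatOver g (C.opcycles j) := by
  suffices h : ∀ (k : ℕ) (j : ℤ), m ≤ j → N + 1 - k ≤ j → FlatMod.IsFlatOver g (C.opcycles j) by
    exact h (N + 1 - j).toNat j hj (by omega)
  intro k
  induction k with
  | zero =>
    intro j _ hj2
    have hz : IsZero (C.X j) := hN j (by omega)
    have : IsZero (C.opcycles j) := IsZero.of_epi (C.pOpcycles j) hz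
    exact flatOver_of_isZero g this
  | succ k ih =>
    intro j hj1 hj2
    have h3 : FlatMod.IsFlatOver g (C.opcycles (j + 1)) :=
      ih (j + 1) (by omega) (by push_cast at hj2 ⊢; omega)
    exact (flatOver_iff_of_shortExact g _
      (Groth.Agent.H28.PerfTor.opcycles_shortExact C j (hex j hj1)) h3).1 (hfl (j + 1) (by omega))

/-- The key relative flatness statement. -/
theorem flatOver_opcycles_of_mqi {P F : CochainComplex X.Modules ℤ} (β : P ⟶ F) (a N : ℤ)
    (hPfl : ∀ j, FlatMod.IsFlatOver g (P.X j)) (hFfl : ∀ j, FlatMod.IsFlatOver g (F.X j))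
    (hPN : ∀ j, N < j → IsZero (P.X j)) (hFN : ∀ j, N < j → IsZero (F.X j))
    (hFa : ∀ j, j < a → IsZero (F.X j))
    (hβ : Groth.Agent.H28.LpullLoc.MQI (a - 1) (DerivedCategory.Q.map β)) :
    FlatMod.IsFlatOver g (P.opcycles a) := by
  let C := mappingCone β
  have iso : ∀ i, C.X i ≅ P.X (i + 1) ⊞ F.X i := fun i =>
    HomologicalComplex.homotopyCofiber.XIsoBiprod β i (i + 1) rfl
  have hCfl : ∀ j, FlatMod.IsFlatOver g (C.X j) := fun j =>
    flatOver_of_iso g (iso j).symm (flatOver_biprod g (hPfl _) (hFfl _))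
  have hCN : ∀ j, N < j → IsZero (C.X j) := fun j hj =>
    IsZero.of_iso (Groth.Agent.H90.SPerf.isZero_biprod' (hPN _ (by omega)) (hFN _ hj)) (iso j)
  have hex : ∀ j, a - 1 ≤ j → C.ExactAt j := by
    intro j hj
    rw [HomologicalComplex.exactAt_iff_isZero_homology]
    have hz := Groth.Agent.H28.LpullLoc.isZero_obj₃_of_mqi _
      (DerivedCategory.mappingCone_triangle_distinguished β) (a - 1) hβ j hj
    exact ((DerivedCategory.homologyFunctorFactors X.Modules j).app C).isZero_iff.1 hz
  have hfl := flatOver_opcycles g C N (a - 1) hCN (fun j _ => hCfl j) hex (a - 1) le_rfl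
  exact flatOver_of_iso g
    (Groth.Agent.H28.PerfTor.opcyclesConeIso β a (hFa _ (by omega)) (hFa _ (by omega))) hfl

end Basic

section Algebra

lemma flat_of_semilinear {R A A' N N' : Type u} [CommRing R] [CommRing A] [CommRing A']
    [AddCommGroup N] [Module A N] [AddCommGroup N'] [Module A' N']
    (ψ : R →+* A) (ψ' : R →+* A') (ρ : A' →+* A) (hρ : ρ.comp ψ' = ψ) (e : N' ≃+ N)
    (he : ∀ (a' : A') (n' : N'), e (a' • n') = ρ a' • e n')
    (H : letI := Module.compHom N ψ; Module.Flat R N) :
    letI := Module.compHom N' ψ'; Module.Flat R N' := by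
  subst hρ
  let m1 := Module.compHom N (ρ.comp ψ')
  let m2 := Module.compHom N' ψ'
  let e' : N' ≃ₗ[R] N :=
    { e with
      map_smul' := fun c n' => by
        change e (ψ' c • n') = ρ (ψ' c) • e n'
        exact he _ _ }
  have : Module.Flat R N := H
  exact Module.Flat.of_linearEquiv e'

end Algebra

section Restrict

variable {U U' S : Scheme.{u}} (i : U' ⟶ U) [IsOpenImmersion i] (M : U.Modules) (y : U')

/-- The additive isomorphism between the stalk of `M|_{U'}` at `y` and the stalk of `M` at `i y`. -/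
noncomputable def stalkAddIso :
    (M.restrict i).presheaf.stalk y ≅ M.presheaf.stalk (i y) :=
  (Scheme.Modules.restrictStalkNatIso i y).app M

lemma stalkAddIso_germ (W : U'.Opens) (hy : y ∈ W) (hmem : i y ∈ i ''ᵁ W)
    (n : Γ(M.restrict i, W)) :
    (stalkAddIso i M y).hom ((M.restrict i).presheaf.germ W y hy n) =
      M.presheaf.germ (i ''ᵁ W) (i y) hmem n :=
  ConcreteCategory.congr_hom (Scheme.Modules.germ_restrictStalkNatIso_hom_app i y M hy) n

lemma ringIso_germ (W : U'.Opens) (hy : y ∈ W) (hmem : i y ∈ i ''ᵁ W) (a : Γ(U', W)) :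
    (inv (i.stalkMap y)) (U'.presheaf.germ W y hy a) =
      U.presheaf.germ (i ''ᵁ W) (i y) hmem ((i.appIso W).inv a) := by
  have h1 : (i.stalkMap y) (U.presheaf.germ (i ''ᵁ W) (i y) hmem ((i.appIso W).inv a)) =
      U'.presheaf.germ W y hy a := by
    rw [Scheme.Hom.germ_stalkMap_apply, Scheme.Hom.appIso_inv_app_apply]
    exact U'.presheaf.germ_res_apply _ y _ a
  rw [← h1]
  have h2 := ConcreteCategory.congr_hom (IsIso.hom_inv_id (i.stalkMap y))
    (U.presheaf.germ (i ''ᵁ W) (i y) hmem ((i.appIso W).inv a))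
  simpa only [CategoryTheory.comp_apply, CategoryTheory.id_apply] using h2

lemma stalkAddIso_smul_germ (W : U'.Opens) (hy : y ∈ W) (a : Γ(U', W))
    (m : Γ(M.restrict i, W)) :
    (stalkAddIso i M y).hom (U'.presheaf.germ W y hy a •
        (M.restrict i).presheaf.germ W y hy m) =
      (inv (i.stalkMap y)) (U'.presheaf.germ W y hy a) •
        (stalkAddIso i M y).hom ((M.restrict i).presheaf.germ W y hy m) := by
  have hmem : i y ∈ i ''ᵁ W := ⟨y, hy, rfl⟩
  rw [← Groth.Agent.H8.germ_smul (M.restrict i) y hy, stalkAddIso_germ i M y W hy hmem,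
    stalkAddIso_germ i M y W hy hmem, ringIso_germ i y W hy hmem]
  refine Eq.trans ?_ (Groth.Agent.H8.germ_smul M (i y) hmem ((i.appIso W).inv a) m)
  rfl

lemma stalkAddIso_smul (r : U'.presheaf.stalk y) (m : (M.restrict i).presheaf.stalk y) :
    (stalkAddIso i M y).hom (r • m) = (inv (i.stalkMap y)) r • (stalkAddIso i M y).hom m := by
  obtain ⟨W, hyW, a, rfl⟩ := U'.presheaf.exists_germ_eq r
  obtain ⟨W', hyW', m₀, rfl⟩ := (M.restrict i).presheaf.exists_germ_eq m
  have hyI : y ∈ W ⊓ W' := ⟨hyW, hyW'⟩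
  rw [← U'.presheaf.germ_res_apply (homOfLE (inf_le_left : W ⊓ W' ≤ W)) y hyI a,
    ← (M.restrict i).presheaf.germ_res_apply (homOfLE (inf_le_right : W ⊓ W' ≤ W')) y hyI m₀]
  exact stalkAddIso_smul_germ i M y (W ⊓ W') hyI _ _

/-- Flatness over the base is inherited by restrictions along open immersions. -/
theorem flatOver_restrict (g : U ⟶ S) (hM : FlatMod.IsFlatOver g M) :
    FlatMod.IsFlatOver (i ≫ g) (M.restrict i) := by
  intro y
  unfold FlatMod.IsFlatOverAt
  refine flat_of_semilinear (g.stalkMap (i y)).hom ((i ≫ g).stalkMap y).hom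
    (inv (i.stalkMap y)).hom ?_ (stalkAddIso i M y).addCommGroupIsoToAddEquiv ?_ (hM (i y))
  · have h3 : (i ≫ g).stalkMap y ≫ inv (i.stalkMap y) = g.stalkMap (i y) :=
      (IsIso.comp_inv_eq _).2 (Scheme.Hom.stalkMap_comp i g y)
    rw [← h3]
    rfl
  · intro a' n'
    exact stalkAddIso_smul i M y a' n'

end Restrict

end Groth.Agent.H97.RelFlatLib
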