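import Mathlib
import Groth.Agent.H28.PerfTor4
import Groth.Agent.H97.RelFlatLib
import Groth.Prelude.Def_DCoh3

/-!
# (RP) pseudo-coherent + locally finite relative tor dimension ⇒ locally a bounded complex of
finitely presented modules flat over the base (helper97, squad piece for helper90's S7275)
-/

set_option autoImplicit false
set_option maxHeartbeats 400000
universe u
open CategoryTheory CategoryTheory.Limits AlgebraicGeometry HomologicalComplex
attribute [local instance] HasDerivedCategory.standard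

namespace Groth.Agent.H97.RelPerfLoc

open Groth.Agent.H90.SPerf Groth.Agent.H97.RelFlatLib CochainComplex

/-- Relative core: a complex of modules flat over the base, placed in `[a,b]`, receiving an
`(a-1)`-quasi-isomorphism from a strictly perfect complex `P`, is quasi-isomorphic to `τ_{≥ a} P`,
whose terms are finitely presented and flat over the base. -/
theorem rel_core {Z S : Scheme.{u}} (g : Z ⟶ S) [Flat g] {P F : CochainComplex Z.Modules ℤ}
    (β : P ⟶ F) (a b : ℤ)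
    (hP : DCoh.IsStrictlyPerfect P) (hFv : DCoh.VanishesOutside F a b)
    (hFfl : ∀ i, FlatMod.IsFlatOver g (F.X i))
    (hβ : Groth.Agent.H90.SPerf.MQI (a - 1) (DerivedCategory.Q.map β)) :
    ∃ b' : ℤ, DCoh.VanishesOutside (P.truncGE a) a b' ∧
      (∀ i : ℤ, CohB1.IsFP ((P.truncGE a).X i) ∧ FlatMod.IsFlatOver g ((P.truncGE a).X i)) ∧
      Nonempty (DerivedCategory.Q.obj F ≅ DerivedCategory.Q.obj (P.truncGE a)) := by
  obtain ⟨⟨a₁, b₁, hPv⟩, hPf⟩ := hP
  have fpOfFLF : ∀ M : Z.Modules, FlatMod.IsFinLocFree M → CohB1.IsFP M := fun M hM =>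
    ((Groth.Agent.S9805.result Z M (Groth.Agent.H8.isQuasicoherent_of_isFinLocFree M hM)).2 hM).2
  have hPfl : ∀ j, FlatMod.IsFlatOver g (P.X j) := fun j =>
    flatOver_of_isFlat g _ (Groth.Agent.H28.LpullLoc.isFlat_of_isFinLocFree (hPf j))
  have hPfp : ∀ j, CohB1.IsFP (P.X j) := fun j => fpOfFLF _ (hPf j)
  have hK : FlatMod.IsFlatOver g (P.opcycles a) :=
    flatOver_opcycles_of_mqi g β a (max b₁ b) hPfl hFfl
      (fun j hj => hPv j (Or.inr (lt_of_le_of_lt (le_max_left _ _) hj)))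
      (fun j hj => hFv j (Or.inr (lt_of_le_of_lt (le_max_right _ _) hj)))
      (fun j hj => hFv j (Or.inl hj)) ⟨hβ.1, hβ.2⟩
  have hKfp : CohB1.IsFP (P.opcycles a) := by
    have e : cokernel (P.d (a - 1) a) ≅ P.opcycles a :=
      IsColimit.coconePointUniqueUpToIso (cokernelIsCokernel (P.d (a - 1) a))
        (P.opcyclesIsCokernel (a - 1) a (by simp))
    haveI q1 : (P.X (a - 1)).IsQuasicoherent :=
      Groth.Agent.H8.isQuasicoherent_of_isFinLocFree _ (hPf _)
    haveI q2 : (P.X a).IsQuasicoherent :=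
      Groth.Agent.H8.isQuasicoherent_of_isFinLocFree _ (hPf _)
    have hfp : CohB1.IsFP (cokernel (P.d (a - 1) a)) :=
      Groth.Agent.H49.InjCoker.isFP_cokernel (P.d (a - 1) a) (hPfp _) (hPfp _)
    exact (SheafOfModules.isFinitePresentation Z.ringCatSheaf).prop_of_iso e hfp
  refine ⟨max b₁ a, ?_, ?_, ?_⟩
  · intro i hi
    rcases hi with hi | hi
    · exact (P.truncGE a).isZero_of_isStrictlyGE a i hi
    · have h1 : b₁ < i := lt_of_le_of_lt (le_max_left _ _) hi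
      have h2 : a < i := lt_of_le_of_lt (le_max_right _ _) hi
      exact IsZero.of_iso (hPv i (Or.inr h1)) (P.truncGEXIso a i h2)
  · intro i
    rcases lt_trichotomy i a with h | h | h
    · have hz : IsZero ((P.truncGE a).X i) := (P.truncGE a).isZero_of_isStrictlyGE a i h
      exact ⟨fpOfFLF _ (Groth.Agent.H90.SPerf.isFinLocFree_of_isZero hz), flatOver_of_isZero g hz⟩
    · subst h
      exact ⟨(SheafOfModules.isFinitePresentation Z.ringCatSheaf).prop_of_iso
          (P.truncGEXIsoOpcycles i).symm hKfp,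
        flatOver_of_iso g (P.truncGEXIsoOpcycles i).symm hK⟩
    · exact ⟨(SheafOfModules.isFinitePresentation Z.ringCatSheaf).prop_of_iso
          (P.truncGEXIso a i h).symm (hPfp i),
        flatOver_of_iso g (P.truncGEXIso a i h).symm (hPfl i)⟩
  · haveI : F.IsStrictlyGE a := by
      rw [isStrictlyGE_iff]
      intro i hi
      exact hFv i (Or.inl hi)
    have hq : QuasiIso (truncGEMap β a) := by
      rw [CochainComplex.quasiIso_truncGEMap_iff]
      intro i hi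
      rw [quasiIsoAt_iff_isIso_homologyMap]
      exact (Groth.Agent.H28.PCohD.isIso_homologyFunctor_map_Q_iff β i).1 (hβ.1 i (by omega))
    haveI h1 : IsIso (DerivedCategory.Q.map (truncGEMap β a)) :=
      (DerivedCategory.isIso_Q_map_iff_quasiIso (C := Z.Modules) _).2 hq
    exact ⟨DerivedCategory.Q.mapIso (asIso (F.πTruncGE a)) ≪≫
      (asIso (DerivedCategory.Q.map (truncGEMap β a))).symm⟩

/-- Transport to an honest open of `X` and truncation. -/
theorem final_step {X S : Scheme.{u}} (f : X ⟶ S) [Flat f] (E : DCoh.D X) {T : Scheme.{u}}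
    (k : T ⟶ X) [IsOpenImmersion k] {P F : CochainComplex T.Modules ℤ} (β : P ⟶ F) (a b : ℤ)
    (hP : DCoh.IsStrictlyPerfect P) (hFv : DCoh.VanishesOutside F a b)
    (hFfl : ∀ i, FlatMod.IsFlatOver (k ≫ f) (F.X i))
    (hβ : MQI (a - 1) (DerivedCategory.Q.map β))
    (eF : (DCoh.restrictD k).obj E ≅ DerivedCategory.Q.obj F) :
    ∃ (G : CochainComplex (k.opensRange : Scheme.{u}).Modules ℤ) (a' b' : ℤ),
      DCoh.VanishesOutside G a' b' ∧
      (∀ i : ℤ, CohB1.IsFP (G.X i) ∧ FlatMod.IsFlatOver (k.opensRange.ι ≫ f) (G.X i)) ∧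
      Nonempty ((DCoh.restrictD k.opensRange.ι).obj E ≅ DerivedCategory.Q.obj G) := by
  have hk : k.opensRange.ι = k.isoOpensRange.inv ≫ k := (k.isoOpensRange_inv_comp).symm
  let R := (Scheme.Modules.restrictFunctor k.isoOpensRange.inv).mapHomologicalComplex
    (ComplexShape.up ℤ)
  have hP' : DCoh.IsStrictlyPerfect (R.obj P) := isStrictlyPerfect_restrict k.isoOpensRange.inv hP
  have hF'v : DCoh.VanishesOutside (R.obj F) a b := fun i hi =>
    Functor.map_isZero (Scheme.Modules.restrictFunctor k.isoOpensRange.inv) (hFv i hi)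
  have hF'fl : ∀ i, FlatMod.IsFlatOver (k.opensRange.ι ≫ f) ((R.obj F).X i) := fun i =>
    flatOver_congr (by rw [hk, Category.assoc])
      (flatOver_restrict k.isoOpensRange.inv (F.X i) (k ≫ f) (hFfl i))
  have hQβ' : DerivedCategory.Q.map (R.map β) =
      (Scheme.Modules.restrictFunctor k.isoOpensRange.inv).mapDerivedCategoryFactors.inv.app P ≫
        (Scheme.Modules.restrictFunctor k.isoOpensRange.inv).mapDerivedCategory.map
          (DerivedCategory.Q.map β) ≫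
        (Scheme.Modules.restrictFunctor k.isoOpensRange.inv).mapDerivedCategoryFactors.hom.app F := by
    have nat := (Scheme.Modules.restrictFunctor
      k.isoOpensRange.inv).mapDerivedCategoryFactors.hom.naturality β
    simp only [Functor.comp_map] at nat
    rw [nat]
    simp [R]
  have hmqi' : MQI (a - 1) (DerivedCategory.Q.map (R.map β)) := by
    rw [hQβ']
    exact (MQI.of_isIso _ _).comp ((hβ.map _).comp (MQI.of_isIso _ _))
  haveI : Flat (k.opensRange.ι ≫ f) := inferInstance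
  obtain ⟨b', hGv, hGt, ⟨eG⟩⟩ := rel_core (k.opensRange.ι ≫ f) (R.map β) a b hP' hF'v hF'fl hmqi'
  obtain ⟨c⟩ := restrictD_comp_obj k.isoOpensRange.inv k k.opensRange.ι hk E
  exact ⟨_, a, b', hGv, hGt,
    ⟨c ≪≫ (DCoh.restrictD k.isoOpensRange.inv).mapIso eF ≪≫
      restrictDObjIso k.isoOpensRange.inv (Iso.refl _) ≪≫ eG⟩⟩

/-- (RP) -/
theorem exists_fp_flat_model {X S : Scheme.{u}} (f : X ⟶ S) [Flat f] [LocallyOfFinitePresentation f]
    (E : DCoh.D X) (hpc : ∀ m : ℤ, DCoh.IsPseudoCoherentD m E)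
    (hft : DCoh.LocHasFiniteRelTorDim f E) (x : X) :
    ∃ V : X.Opens, x ∈ V ∧ ∀ F : CochainComplex X.Modules ℤ, Nonempty (DCoh.toD X F ≅ E) →
      ∃ (G : CochainComplex (V : Scheme.{u}).Modules ℤ) (a b : ℤ), DCoh.VanishesOutside G a b ∧
        (∀ i : ℤ, CohB1.IsFP (G.X i) ∧ FlatMod.IsFlatOver (V.ι ≫ f) (G.X i)) ∧
        Nonempty (DerivedCategory.Q.obj ((DCoh.restrictCx V).obj F) ≅ DerivedCategory.Q.obj G) := by
  obtain ⟨V, a, b, hxV, hV⟩ := hft x
  obtain ⟨Fl, hFlv, hFlfl, ⟨eFl⟩⟩ := hV (DerivedCategory.Q.objPreimage E)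
    ⟨DerivedCategory.Q.objObjPreimageIso E⟩
  have eFl' : DerivedCategory.Q.obj Fl ≅ (DCoh.restrictD V.ι).obj E :=
    eFl ≪≫ (restrictDObjIso V.ι (DerivedCategory.Q.objObjPreimageIso E)).symm
  -- pseudo-coherence of the restriction near `x`
  have hpcV : LocPC (a - 1) ((DCoh.restrictD V.ι).obj E) (⟨x, hxV⟩ : (V : Scheme.{u})) := by
    obtain ⟨V', hxV', P, α, hP, hα⟩ := (isPC_iff _ _).1 (hpc (a - 1)) x
    obtain ⟨P', α', hP', hα'⟩ := locPC_shrink (inf_le_right : V ⊓ V' ≤ V') hP α hα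
    obtain ⟨c⟩ := restrictD_comp_obj
      (X.homOfLE (inf_le_left : V ⊓ V' ≤ V)) V.ι (V ⊓ V').ι (X.homOfLE_ι _).symm E
    have hpt : (X.homOfLE (inf_le_left : V ⊓ V' ≤ V))
        (⟨x, ⟨hxV, hxV'⟩⟩ : ((V ⊓ V' : X.Opens) : Scheme.{u})) = ⟨x, hxV⟩ := by
      apply Subtype.ext
      simp
    rw [← hpt]
    exact locPC_of_immersion (X.homOfLE (inf_le_left : V ⊓ V' ≤ V))
      (⟨x, ⟨hxV, hxV'⟩⟩ : ((V ⊓ V' : X.Opens) : Scheme.{u})) hP' (α' ≫ c.hom)
      (hα'.comp (MQI.of_isIso _ _))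
  obtain ⟨V₁, hxV₁, P, α, hP, hα⟩ := hpcV
  let FV := (DCoh.restrictCx V₁).obj Fl
  let e1 : (DCoh.restrictD V₁.ι).obj ((DCoh.restrictD V.ι).obj E) ≅ DerivedCategory.Q.obj FV :=
    restrictDObjIso V₁.ι eFl'
  have hα' : MQI (a - 1) (α ≫ e1.hom) := hα.comp (MQI.of_isIso _ e1.hom)
  obtain ⟨W, hxW, hW⟩ := exists_chain_map_rep hP (α ≫ e1.hom) ⟨⟨x, hxV⟩, hxV₁⟩
  obtain ⟨β, hβ⟩ := hW
  have hQβ : DerivedCategory.Q.map β =
      (Scheme.Modules.restrictFunctor W.ι).mapDerivedCategoryFactors.inv.app P ≫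
        (DCoh.restrictD W.ι).map (α ≫ e1.hom) ≫
        (Scheme.Modules.restrictFunctor W.ι).mapDerivedCategoryFactors.hom.app FV := by
    rw [hβ]
    simp
  have hmqi : MQI (a - 1) (DerivedCategory.Q.map β) := by
    rw [hQβ]
    exact (MQI.of_isIso _ _).comp ((hα'.map _).comp (MQI.of_isIso _ _))
  have hFWv : DCoh.VanishesOutside ((DCoh.restrictCx W).obj FV) a b := fun i hi =>
    Functor.map_isZero (Scheme.Modules.restrictFunctor W.ι)
      (Functor.map_isZero (Scheme.Modules.restrictFunctor V₁.ι) (hFlv i hi))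
  have hFWfl : ∀ i, FlatMod.IsFlatOver ((W.ι ≫ V₁.ι ≫ V.ι) ≫ f)
      (((DCoh.restrictCx W).obj FV).X i) := fun i =>
    flatOver_congr (by simp only [Category.assoc])
      (flatOver_restrict W.ι _ (V₁.ι ≫ V.ι ≫ f)
        (flatOver_restrict V₁.ι (Fl.X i) (V.ι ≫ f) (hFlfl i)))
  obtain ⟨c2⟩ := restrictD_comp_obj W.ι (V₁.ι ≫ V.ι) (W.ι ≫ V₁.ι ≫ V.ι) rfl E
  obtain ⟨c3⟩ := restrictD_comp_obj V₁.ι V.ι (V₁.ι ≫ V.ι) rfl E
  let eW : (DCoh.restrictD (W.ι ≫ V₁.ι ≫ V.ι)).obj E ≅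
      DerivedCategory.Q.obj ((DCoh.restrictCx W).obj FV) :=
    c2 ≪≫ (DCoh.restrictD W.ι).mapIso (c3 ≪≫ e1) ≪≫ restrictDObjIso W.ι (Iso.refl _)
  obtain ⟨G, a', b', hGv, hGt, ⟨eG⟩⟩ := final_step f E (W.ι ≫ V₁.ι ≫ V.ι) β a b
    (isStrictlyPerfect_restrict W.ι hP) hFWv hFWfl hmqi eW
  refine ⟨(W.ι ≫ V₁.ι ≫ V.ι).opensRange, ⟨⟨⟨⟨x, hxV⟩, hxV₁⟩, hxW⟩, rfl⟩, fun F ⟨e⟩ => ?_⟩
  exact ⟨G, a', b', hGv, hGt, ⟨(restrictDObjIso (W.ι ≫ V₁.ι ≫ V.ι).opensRange.ι e).symm ≪≫ eG⟩⟩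

end Groth.Agent.H97.RelPerfLoc
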