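import Mathlib
import Groth.Prelude.Def_EtBCD
import Groth.Agent.H67.SecDesc.Defs

/-!
# helper97: (B1) `theta_alpha` for helper67's S3517 squad.

Both sides are a restriction `G.obj.map k.op` of the same element along a morphism `k` into the
object `(bc g').obj ((bc f).obj (top S))`, which is isomorphic to a terminal object.
-/

set_option autoImplicit false
universe u
open CategoryTheory CategoryTheory.Limits AlgebraicGeometry Opposite
open Groth.Agent.H67.SecDesc

namespace Groth.Agent.H97.SecDesc_B1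

set_option backward.isDefEq.respectTransparency.types false in
theorem theta_alpha {X S X' S' : Scheme.{u}} (f : X ⟶ S) (g : S' ⟶ S) (f' : X' ⟶ S')
    (g' : X' ⟶ X) (w : g' ≫ f = f' ≫ g) (F : EtDesc.Sh X)
    (η : EtDesc.sect ((EtDesc.pushSh f).obj F) (EtCoh.top S)) :
    theta f' ((EtDesc.pullSh g').obj F)
      (theta g ((EtDesc.pushSh f').obj ((EtDesc.pullSh g').obj F))
        ((alpha f g f' g' w F).hom.app (op (EtCoh.top S)) η)) =
      EtDesc.secPull g' F (theta f F η) := by
  -- any two morphisms into the (terminal) object agree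
  have hT : ∀ a b : EtCoh.top X' ⟶ (EtCoh.bc g').obj ((EtCoh.bc f).obj (EtCoh.top S)), a = b := by
    intro a b
    rw [← cancel_mono ((EtCoh.bc g').map (EtCore.bcTopIso f).hom)]
    exact (EtCore.bcTopIsTerminal g').hom_ext _ _
  -- LHS
  obtain ⟨k, hL⟩ : ∃ k : EtCoh.top X' ⟶ (EtCoh.bc g').obj ((EtCoh.bc f).obj (EtCoh.top S)),
      theta f' ((EtDesc.pullSh g').obj F)
        (theta g ((EtDesc.pushSh f').obj ((EtDesc.pullSh g').obj F))
          ((alpha f g f' g' w F).hom.app (op (EtCoh.top S)) η)) =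
      ((EtDesc.pullSh g').obj F).obj.map k.op
        (((EtDesc.adjSh g').unit.app F).hom.app (op ((EtCoh.bc f).obj (EtCoh.top S))) η) := by
    refine ⟨(EtCore.bcTopIso f').inv ≫ (EtCoh.bc f').map (EtCore.bcTopIso g).inv ≫
      ((MorphismProperty.Over.pullbackComp (P := EtCoh.etaleMP) (Q := ⊤) f' g).symm :
        EtCoh.bc g ⋙ EtCoh.bc f' ≅ EtCoh.bc (f' ≫ g)).hom.app (EtCoh.top S) ≫
      ((MorphismProperty.Over.pullbackCongr (P := EtCoh.etaleMP) (Q := ⊤) w) :
        EtCoh.bc (g' ≫ f) ≅ EtCoh.bc (f' ≫ g)).inv.app (EtCoh.top S) ≫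
      ((MorphismProperty.Over.pullbackComp (P := EtCoh.etaleMP) (Q := ⊤) g' f).symm :
        EtCoh.bc f ⋙ EtCoh.bc g' ≅ EtCoh.bc (g' ≫ f)).inv.app (EtCoh.top S), ?_⟩
    simp only [op_comp, Functor.map_comp_apply]
    rfl
  -- RHS
  obtain ⟨k', hR⟩ : ∃ k' : EtCoh.top X' ⟶ (EtCoh.bc g').obj ((EtCoh.bc f).obj (EtCoh.top S)),
      EtDesc.secPull g' F (theta f F η) =
      ((EtDesc.pullSh g').obj F).obj.map k'.op
        (((EtDesc.adjSh g').unit.app F).hom.app (op ((EtCoh.bc f).obj (EtCoh.top S))) η) := by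
    refine ⟨(EtCore.bcTopIso g').inv ≫ (EtCoh.bc g').map (EtCore.bcTopIso f).inv, ?_⟩
    have nat : ((EtDesc.adjSh g').unit.app F).hom.app (op (EtCoh.top X))
          (F.obj.map (EtCore.bcTopIso f).inv.op η) =
        ((EtDesc.pullSh g').obj F).obj.map ((EtCoh.bc g').map (EtCore.bcTopIso f).inv).op
          (((EtDesc.adjSh g').unit.app F).hom.app (op ((EtCoh.bc f).obj (EtCoh.top S))) η) :=
      NatTrans.naturality_apply ((EtDesc.adjSh g').unit.app F).hom (EtCore.bcTopIso f).inv.op η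
    simp only [op_comp, Functor.map_comp_apply]
    show ((EtDesc.pullSh g').obj F).obj.map (EtCore.bcTopIso g').inv.op
        (((EtDesc.adjSh g').unit.app F).hom.app (op (EtCoh.top X))
          (F.obj.map (EtCore.bcTopIso f).inv.op η)) = _
    rw [nat]
  rw [hL, hR, hT k k']

end Groth.Agent.H97.SecDesc_B1
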