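import Mathlib
import Groth.Prelude.Def_AlgGrp
import Groth.Prelude.Def_RedSub
import Groth.Agent.H33.TQ_QU

/-!
# helper97: (T4-MONO) for helper43's S16612 squad — the map induced on the fppf quotient `G/H`
by a homomorphism `m : G ⟶ Z` with kernel `H` is a monomorphism.
-/

set_option autoImplicit false
universe u
open CategoryTheory Limits MonoidalCategory CartesianMonoidalCategory MonObj GrpObj AlgebraicGeometry

namespace Groth.Agent.H97.T4_MONO

/-- the subgroup maps to the unit in the quotient. -/
theorem comp_quotient_eq_one {S : Scheme.{u}} {G H Q : Over S} [GrpObj G] [GrpObj H] [GrpObj Q]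
    (i : H ⟶ G) (q : G ⟶ Q) [IsMonHom q] (hq : RedSub.IsQuotient i q) : i ≫ q = 1 := by
  have w := hq.2.2.2.w
  have h1 := congrArg (fun t => lift (toUnit H ≫ η[G]) (𝟙 H) ≫ t) w
  simp only [Category.assoc] at h1
  rw [lift_fst_assoc, lift_whiskerLeft_assoc, Category.id_comp, ← Category.assoc (lift _ i),
    ← Hom.mul_def, ← Hom.one_def, _root_.one_mul, MonObj.one_comp] at h1
  exact h1.symm

/-- (T4-MONO) -/
theorem mono_desc {S : Scheme.{u}} {G H Q Z : Over S} [GrpObj G] [GrpObj H] [GrpObj Q] [GrpObj Z]
    (i : H ⟶ G) [IsMonHom i] (q : G ⟶ Q) [IsMonHom q] (hq : RedSub.IsQuotient i q) (m : G ⟶ Z)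
    [IsMonHom m] (hk : AlgGrp.IsKernel i m) (j₃ : Q ⟶ Z) [IsMonHom j₃] (h : q ≫ j₃ = m) :
    Mono j₃ := by
  have hiq : i ≫ q = 1 := comp_quotient_eq_one i q hq
  have key : ∀ {X : Over S} (x : X ⟶ Q), x ≫ j₃ = 1 → x = 1 := by
    intro X x hx
    have sq : IsPullback (pullback.fst x q).left (pullback.snd x q).left x.left q.left :=
      (IsPullback.of_hasPullback x q).map (Over.forget S)
    have : Epi (pullback.fst x q) := by
      apply Groth.Agent.H33.TQ_QU.epi_of_fppf
      · exact MorphismProperty.of_isPullback (P := @Surjective.{u}) sq.flip hq.1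
      · exact MorphismProperty.of_isPullback (P := @Flat.{u}) sq.flip hq.2.1
      · exact MorphismProperty.of_isPullback (P := @LocallyOfFinitePresentation.{u}) sq.flip
          hq.2.2.1
    have hxt : pullback.snd x q ≫ m = toUnit _ ≫ η[Z] := by
      rw [← h, ← Category.assoc, ← pullback.condition, Category.assoc, hx, MonObj.comp_one,
        Hom.one_def]
    have hk' : IsPullback i (toUnit H) m η[Z] := hk
    have e1 : hk'.lift (pullback.snd x q) (toUnit _) hxt ≫ i = pullback.snd x q :=
      hk'.lift_fst _ _ _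
    rw [← cancel_epi (pullback.fst x q), pullback.condition, ← e1, Category.assoc, hiq,
      MonObj.comp_one, MonObj.comp_one]
  refine ⟨fun {X} a b hab => ?_⟩
  have : a / b = 1 := by
    apply key
    rw [GrpObj.div_comp, hab, div_self']
  exact div_eq_one.mp this

end Groth.Agent.H97.T4_MONO
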