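import Mathlib
import Groth.Agent.H69.DimAffSpaceC

/-!
# helper97: (DO) for helper74's S14484 squad — a nonempty relatively open subset of an irreducible
closed subset of a scheme locally of finite type over a field has the same dimension.
-/

set_option autoImplicit false
universe u
open CategoryTheory CategoryTheory.Limits AlgebraicGeometry

namespace Groth.Agent.H97.WI_DO

theorem dim_preimage_eq {A B : Type*} [TopologicalSpace A] [TopologicalSpace B] {e : A → B}
    (he : Topology.IsEmbedding e) (T : Set B) (hT : T ⊆ Set.range e) :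
    topologicalKrullDim ↥(e ⁻¹' T) = topologicalKrullDim ↥T :=
  IsHomeomorph.topologicalKrullDim_eq (T.restrictPreimage e)
    (isHomeomorph_iff_isEmbedding_surjective.mpr ⟨he.restrictPreimage T, by
      rintro ⟨t, ht⟩
      obtain ⟨a, rfl⟩ := hT ht
      exact ⟨⟨a, ht⟩, rfl⟩⟩)

theorem dim_eq_range {A B : Type*} [TopologicalSpace A] [TopologicalSpace B] {e : A → B}
    (he : Topology.IsEmbedding e) : topologicalKrullDim A = topologicalKrullDim ↥(Set.range e) :=
  IsHomeomorph.topologicalKrullDim_eq _ he.toHomeomorph.isHomeomorph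

theorem irreducibleSpace_of_isEmbedding {A B : Type*} [TopologicalSpace A] [TopologicalSpace B]
    {e : A → B} (he : Topology.IsEmbedding e) (h : IsIrreducible (Set.range e)) :
    IrreducibleSpace A := by
  have : IrreducibleSpace ↥(Set.range e) := Subtype.irreducibleSpace h
  rw [irreducibleSpace_def]
  have h2 := (IrreducibleSpace.isIrreducible_univ ↥(Set.range e)).image he.toHomeomorph.symm
    he.toHomeomorph.symm.continuous.continuousOn
  rw [Set.image_univ, he.toHomeomorph.symm.surjective.range_eq] at h2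
  exact h2

variable (k : Type u) [Field k]

/-- (DO) -/
theorem dim_open_inter_eq {W : Scheme.{u}} (p : W ⟶ Spec (CommRingCat.of k))
    [LocallyOfFiniteType p] (Y : Set W) (hYc : IsClosed Y) (hYi : IsIrreducible Y) (U : Set W)
    (hU : IsOpen U) (hne : (U ∩ Y).Nonempty) :
    topologicalKrullDim ↥(U ∩ Y) = topologicalKrullDim ↥Y := by
  let I : W.IdealSheafData := Scheme.IdealSheafData.vanishingIdeal ⟨Y, hYc⟩
  have hemb : Topology.IsEmbedding ⇑I.subschemeι := I.subschemeι.isClosedEmbedding.isEmbedding
  have hr : Set.range ⇑I.subschemeι = Y := by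
    rw [Scheme.IdealSheafData.range_subschemeι]
    simp [I]
  have hirr : IrreducibleSpace I.subscheme := irreducibleSpace_of_isEmbedding hemb (hr.symm ▸ hYi)
  let U' : I.subscheme.Opens := ⟨⇑I.subschemeι ⁻¹' U, hU.preimage I.subschemeι.continuous⟩
  have hU'ne : (U' : Set I.subscheme).Nonempty := by
    obtain ⟨y, hyU, hyY⟩ := hne
    obtain ⟨z, rfl⟩ : y ∈ Set.range ⇑I.subschemeι := hr.symm ▸ hyY
    exact ⟨z, hyU⟩
  have hdense : Dense (U' : Set I.subscheme) := U'.isOpen.dense hU'ne
  have h1 := Groth.Agent.H69.DimAffSpace.topologicalKrullDim_eq_of_dense k (I.subschemeι ≫ p) U'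
    hdense
  have h2 : topologicalKrullDim I.subscheme = topologicalKrullDim ↥Y := by
    rw [dim_eq_range hemb, hr]
  have h3 : topologicalKrullDim ↥(U ∩ Y) =
      topologicalKrullDim ↥(⇑I.subschemeι ⁻¹' (U ∩ Y)) :=
    (dim_preimage_eq hemb (U ∩ Y) (by rw [hr]; exact Set.inter_subset_right)).symm
  have h4 : ⇑I.subschemeι ⁻¹' (U ∩ Y) = ⇑I.subschemeι ⁻¹' U := by
    ext z
    constructor
    · intro hz
      exact hz.1
    · intro hz
      exact ⟨hz, hr ▸ Set.mem_range_self z⟩
  rw [h3, h4, ← h2]
  exact h1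

end Groth.Agent.H97.WI_DO
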