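import Mathlib

/-!
# Differentials without residues on the projective line, in polynomial form (helper97)

`E = ∏ (X - r_j)^(a_j)`, `E0 = ∏ (X - r_j)`, `Dp = E * E0`, and the operator
`W P = P' E0 - P G` (so that `W P / Dp = (P / E)'`).  The space `V` of the `W4c4effdivwronsk2`
statements is contained in `W (k[X]_{≤ N})`.
-/

set_option autoImplicit false
set_option linter.style.haveILetI false
set_option linter.unusedSectionVars false

namespace Groth.Agent.H97.Wronsk

open Polynomial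

variable {k : Type*} [Field k] {m : ℕ} (r : Fin m → k) (a : Fin m → ℕ)

noncomputable def E (S : Finset (Fin m)) : k[X] := ∏ j ∈ S, (X - C (r j)) ^ (a j)
noncomputable def E0 (S : Finset (Fin m)) : k[X] := ∏ j ∈ S, (X - C (r j))
noncomputable def G (S : Finset (Fin m)) : k[X] :=
  ∑ j ∈ S, C ((a j : ℕ) : k) * ∏ l ∈ S.erase j, (X - C (r l))
noncomputable def Dp (S : Finset (Fin m)) : k[X] := ∏ j ∈ S, (X - C (r j)) ^ (a j + 1)

theorem Dp_eq (S : Finset (Fin m)) : Dp r a S = E r a S * E0 r S := by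
  unfold Dp E E0
  rw [← Finset.prod_mul_distrib]
  exact Finset.prod_congr rfl fun j _ => pow_succ _ _

theorem E_insert {i : Fin m} {S : Finset (Fin m)} (hi : i ∉ S) :
    E r a (insert i S) = (X - C (r i)) ^ (a i) * E r a S := Finset.prod_insert hi

theorem E0_insert {i : Fin m} {S : Finset (Fin m)} (hi : i ∉ S) :
    E0 r (insert i S) = (X - C (r i)) * E0 r S := Finset.prod_insert hi

theorem G_insert {i : Fin m} {S : Finset (Fin m)} (hi : i ∉ S) :
    G r a (insert i S) = C ((a i : ℕ) : k) * E0 r S + (X - C (r i)) * G r a S := by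
  unfold G E0
  rw [Finset.sum_insert hi, Finset.erase_insert hi, Finset.mul_sum]
  congr 1
  refine Finset.sum_congr rfl fun j hj => ?_
  have hij : i ≠ j := fun h => hi (h ▸ hj)
  rw [Finset.erase_insert_of_ne hij,
    Finset.prod_insert (fun h => hi (Finset.mem_of_mem_erase h))]
  ring

theorem E_univ_eq (i : Fin m) :
    E r a Finset.univ = (X - C (r i)) ^ (a i) * E r a (Finset.univ.erase i) :=
  (Finset.mul_prod_erase Finset.univ (fun j => (X - C (r j)) ^ (a j)) (Finset.mem_univ i)).symm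

theorem E0_univ_eq (i : Fin m) :
    E0 r Finset.univ = (X - C (r i)) * E0 r (Finset.univ.erase i) :=
  (Finset.mul_prod_erase Finset.univ (fun j => (X - C (r j))) (Finset.mem_univ i)).symm

theorem derivative_E_mul_E0 (ha : ∀ j, 1 ≤ a j) (S : Finset (Fin m)) :
    derivative (E r a S) * E0 r S = E r a S * G r a S := by
  induction S using Finset.induction_on with
  | empty => simp [E, E0, G]
  | insert i S hi ih =>
    obtain ⟨n, hn⟩ : ∃ n, a i = n + 1 := ⟨a i - 1, by have := ha i; omega⟩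
    rw [E_insert r a hi, E0_insert r hi, G_insert r a hi, derivative_mul,
      derivative_X_sub_C_pow, hn]
    simp only [Nat.add_sub_cancel]
    linear_combination (X - C (r i)) ^ (n + 2) * ih

theorem natDegree_E_le (S : Finset (Fin m)) : (E r a S).natDegree ≤ ∑ j ∈ S, a j := by
  unfold E
  refine (natDegree_prod_le _ _).trans (Finset.sum_le_sum fun j _ => ?_)
  refine natDegree_pow_le.trans ?_
  rw [natDegree_X_sub_C, mul_one]

theorem E0_eval_ne_zero (q : k) (hq : ∀ j, q ≠ r j) (S : Finset (Fin m)) :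
    (E0 r S).eval q ≠ 0 := by
  unfold E0
  rw [eval_prod]
  refine Finset.prod_ne_zero_iff.mpr fun j _ => ?_
  rw [eval_sub, eval_X, eval_C]
  exact sub_ne_zero.mpr (hq j)

theorem E_eval_ne_zero (q : k) (hq : ∀ j, q ≠ r j) (S : Finset (Fin m)) :
    (E r a S).eval q ≠ 0 := by
  unfold E
  rw [eval_prod]
  refine Finset.prod_ne_zero_iff.mpr fun j _ => ?_
  rw [eval_pow, eval_sub, eval_X, eval_C]
  exact pow_ne_zero _ (sub_ne_zero.mpr (hq j))

/-- The operator `P ↦ P' E0 - P G`, i.e. `Dp * (P / E)'`. -/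
noncomputable def W : k[X] →ₗ[k] k[X] :=
  (LinearMap.mulRight k (E0 r Finset.univ)).comp derivative -
    LinearMap.mulRight k (G r a Finset.univ)

theorem W_apply (P : k[X]) :
    W r a P = derivative P * E0 r Finset.univ - P * G r a Finset.univ := by
  simp [W]

theorem W_mul (A B : k[X]) :
    W r a (A * B) = derivative A * B * E0 r Finset.univ + A * W r a B := by
  rw [W_apply, W_apply, derivative_mul]
  ring

theorem W_E (ha : ∀ j, 1 ≤ a j) : W r a (E r a Finset.univ) = 0 := by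
  rw [W_apply, derivative_E_mul_E0 r a ha]
  ring

theorem W_E_mul (ha : ∀ j, 1 ≤ a j) (Q : k[X]) :
    W r a (E r a Finset.univ * Q) = Dp r a Finset.univ * derivative Q := by
  rw [W_apply, derivative_mul, Dp_eq]
  linear_combination Q * derivative_E_mul_E0 r a ha Finset.univ

theorem W_C_mul (c : k) (P : k[X]) : W r a (C c * P) = C c * W r a P := by
  rw [← smul_eq_C_mul, map_smul, smul_eq_C_mul]

theorem natDegree_lt_of_mem_degreeLT {n : ℕ} (hn : 1 ≤ n) {g : k[X]}
    (hg : g ∈ degreeLT k n) : g.natDegree < n := by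
  by_cases h0 : g = 0
  · rw [h0, natDegree_zero]; omega
  · exact (natDegree_lt_iff_degree_lt h0).mpr (mem_degreeLT.mp hg)

theorem mem_degreeLT_of_natDegree_le {n : ℕ} {g : k[X]} (hg : g.natDegree ≤ n) :
    g ∈ degreeLT k (n + 1) := by
  rw [mem_degreeLT]
  refine lt_of_le_of_lt degree_le_natDegree ?_
  exact_mod_cast Nat.lt_succ_of_le hg

theorem mul_mem_of_forall_pow (T : Submodule k k[X]) (M' : k[X]) (c : k) (n : ℕ)
    (h : ∀ s < n, M' * (X - C c) ^ s ∈ T) (g : k[X]) (hg : g.natDegree < n) : M' * g ∈ T := by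
  rw [← sum_taylor_eq g c, Polynomial.sum, Finset.mul_sum]
  refine T.sum_mem fun i hi => ?_
  have hi' : i < n := lt_of_le_of_lt
    (by rw [← natDegree_taylor g c]; exact le_natDegree_of_mem_supp i hi) hg
  have e : M' * (C ((taylor c g).coeff i) * (X - C c) ^ i) =
      ((taylor c g).coeff i) • (M' * (X - C c) ^ i) := by
    rw [smul_eq_C_mul]; ring
  rw [e]
  exact T.smul_mem _ (h i hi')

section Gen

variable [CharZero k] (N b : ℕ)

theorem gen_infty (ha : ∀ j, 1 ≤ a j) (hN : N = (∑ j, a j) + b) (s : ℕ) (hs : s < b) :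
    Dp r a Finset.univ * (X - C (0 : k)) ^ s ∈ (degreeLT k (N + 1)).map (W r a) := by
  refine Submodule.mem_map.mpr
    ⟨E r a Finset.univ * (C ((s + 1 : k)⁻¹) * X ^ (s + 1)), ?_, ?_⟩
  · apply mem_degreeLT_of_natDegree_le
    refine natDegree_mul_le.trans ?_
    have h2 := natDegree_E_le r a Finset.univ
    have h3 : (C ((s + 1 : k)⁻¹) * X ^ (s + 1)).natDegree ≤ s + 1 :=
      natDegree_C_mul_X_pow_le _ _
    omega
  · have hc : ((s + 1 : k)⁻¹) * ((s + 1 : ℕ) : k) = 1 := by
      push_cast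
      exact inv_mul_cancel₀ (Nat.cast_add_one_ne_zero s)
    rw [W_E_mul r a ha, derivative_C_mul_X_pow, hc]
    simp

theorem gen_pt (ha : ∀ j, 1 ≤ a j) (hN : N = (∑ j, a j) + b) (i : Fin m) (s : ℕ)
    (hs : s < a i) :
    Dp r a (Finset.univ.erase i) * (X - C (r i)) ^ s ∈ (degreeLT k (N + 1)).map (W r a) := by
  obtain ⟨t, ht⟩ : ∃ t, a i = s + (t + 1) := ⟨a i - s - 1, by omega⟩
  have hEQ : (X - C (r i)) ^ (t + 1) * (E r a (Finset.univ.erase i) * (X - C (r i)) ^ s) =
      E r a Finset.univ := by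
    rw [E_univ_eq r a i, ht, pow_add]
    ring
  have hW0 : W r a ((X - C (r i)) ^ (t + 1) *
      (E r a (Finset.univ.erase i) * (X - C (r i)) ^ s)) = 0 := by
    rw [hEQ]; exact W_E r a ha
  rw [W_mul, derivative_X_sub_C_pow, E0_univ_eq r i] at hW0
  simp only [Nat.add_sub_cancel] at hW0
  have key : (X - C (r i)) ^ (t + 1) *
      (C ((t + 1 : ℕ) : k) * (E r a (Finset.univ.erase i) * (X - C (r i)) ^ s) *
        E0 r (Finset.univ.erase i) +
        W r a (E r a (Finset.univ.erase i) * (X - C (r i)) ^ s)) = 0 := by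
    linear_combination hW0
  have hL0 : (X - C (r i)) ^ (t + 1) ≠ 0 := pow_ne_zero _ (X_sub_C_ne_zero _)
  have hWQ := (mul_eq_zero.mp key).resolve_left hL0
  have hc : C (-((t + 1 : ℕ) : k)⁻¹) * C ((t + 1 : ℕ) : k) = -1 := by
    rw [← C_mul, neg_mul, inv_mul_cancel₀ (Nat.cast_ne_zero.mpr (Nat.succ_ne_zero t)), C_neg, C_1]
  refine Submodule.mem_map.mpr
    ⟨C (-((t + 1 : ℕ) : k)⁻¹) * (E r a (Finset.univ.erase i) * (X - C (r i)) ^ s), ?_, ?_⟩
  · apply mem_degreeLT_of_natDegree_le
    refine (natDegree_C_mul_le _ _).trans (natDegree_mul_le.trans ?_)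
    have h2 := natDegree_E_le r a (Finset.univ.erase i)
    have h3 : ((X - C (r i)) ^ s).natDegree ≤ s := by
      refine natDegree_pow_le.trans ?_
      rw [natDegree_X_sub_C, mul_one]
    have h4 : a i + ∑ j ∈ Finset.univ.erase i, a j = ∑ j, a j :=
      Finset.add_sum_erase Finset.univ a (Finset.mem_univ i)
    omega
  · rw [W_C_mul, Dp_eq]
    linear_combination (C (-((t + 1 : ℕ) : k)⁻¹)) * hWQ +
      (-(E r a (Finset.univ.erase i) * (X - C (r i)) ^ s * E0 r (Finset.univ.erase i))) * hc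

theorem V_le (ha : ∀ j, 1 ≤ a j) (hb : 1 ≤ b) (hN : N = (∑ j, a j) + b) :
    (degreeLT k b).map (LinearMap.mulLeft k (Dp r a Finset.univ)) ⊔
      ⨆ i, (degreeLT k (a i)).map (LinearMap.mulLeft k (Dp r a (Finset.univ.erase i))) ≤
      (degreeLT k (N + 1)).map (W r a) := by
  refine sup_le ?_ (iSup_le fun i => ?_)
  · rw [Submodule.map_le_iff_le_comap]
    intro g hg
    rw [Submodule.mem_comap, LinearMap.mulLeft_apply]
    exact mul_mem_of_forall_pow _ _ 0 b (fun s hs => gen_infty r a N b ha hN s hs) g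
      (natDegree_lt_of_mem_degreeLT hb hg)
  · rw [Submodule.map_le_iff_le_comap]
    intro g hg
    rw [Submodule.mem_comap, LinearMap.mulLeft_apply]
    exact mul_mem_of_forall_pow _ _ (r i) (a i) (fun s hs => gen_pt r a N b ha hN i s hs) g
      (natDegree_lt_of_mem_degreeLT (ha i) hg)

theorem dvd_of_dvd_W (q : k) (hq : (E0 r Finset.univ).eval q ≠ 0) (Q : k[X])
    (hQ : Q.eval q = 0) :
    ∀ n : ℕ, (X - C q) ^ n ∣ W r a Q → (X - C q) ^ (n + 1) ∣ Q := by
  intro n
  induction n with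
  | zero =>
    intro _
    rw [zero_add, pow_one, dvd_iff_isRoot]
    exact hQ
  | succ n ih =>
    intro h
    obtain ⟨Q1, hQ1⟩ := ih (dvd_trans (pow_dvd_pow _ (Nat.le_succ n)) h)
    have hW : W r a Q = (X - C q) ^ n * (C ((n + 1 : ℕ) : k) * Q1 * E0 r Finset.univ) +
        (X - C q) ^ (n + 1) * W r a Q1 := by
      rw [hQ1, W_mul, derivative_X_sub_C_pow]
      simp only [Nat.add_sub_cancel]
      ring
    rw [hW] at h
    have h1 : (X - C q) ^ (n + 1) ∣
        (X - C q) ^ n * (C ((n + 1 : ℕ) : k) * Q1 * E0 r Finset.univ) :=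
      (dvd_add_left (dvd_mul_right _ _)).mp h
    rw [pow_succ] at h1
    have h2 : (X - C q) ∣ C ((n + 1 : ℕ) : k) * Q1 * E0 r Finset.univ :=
      (mul_dvd_mul_iff_left (pow_ne_zero n (X_sub_C_ne_zero q))).mp h1
    have h3 : (X - C q) ∣ Q1 := by
      rcases (prime_X_sub_C q).dvd_or_dvd h2 with h4 | h4
      · rcases (prime_X_sub_C q).dvd_or_dvd h4 with h5 | h5
        · exfalso
          rw [dvd_iff_isRoot, IsRoot.def, eval_C] at h5
          exact (Nat.cast_ne_zero.mpr (Nat.succ_ne_zero n)) h5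
        · exact h5
      · exfalso
        rw [dvd_iff_isRoot] at h4
        exact hq h4
    obtain ⟨Q2, hQ2⟩ := h3
    exact ⟨Q2, by rw [hQ1, hQ2]; ring⟩

theorem W_eq_zero_of_dvd (ha : ∀ j, 1 ≤ a j) (hN : N = (∑ j, a j) + b) (q : k)
    (hq : ∀ j, q ≠ r j) (P : k[X]) (hP : P ∈ degreeLT k (N + 1))
    (hdiv : (X - C q) ^ N ∣ W r a P) : W r a P = 0 := by
  have hE := E_eval_ne_zero r a q hq Finset.univ
  have hWQ : W r a (P - C (P.eval q / (E r a Finset.univ).eval q) * E r a Finset.univ) =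
      W r a P := by
    rw [map_sub, W_C_mul, W_E r a ha, mul_zero, sub_zero]
  have hQq : (P - C (P.eval q / (E r a Finset.univ).eval q) * E r a Finset.univ).eval q = 0 := by
    rw [eval_sub, eval_mul, eval_C, div_mul_cancel₀ _ hE, sub_self]
  have hdvd := dvd_of_dvd_W r a q (E0_eval_ne_zero r q hq _) _ hQq N (hWQ ▸ hdiv)
  have hdeg : (P - C (P.eval q / (E r a Finset.univ).eval q) * E r a Finset.univ).natDegree <
      ((X - C q) ^ (N + 1)).natDegree := by
    rw [natDegree_pow, natDegree_X_sub_C, mul_one]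
    have h1 := natDegree_lt_of_mem_degreeLT (by omega : 1 ≤ N + 1) hP
    have h2 := natDegree_E_le r a Finset.univ
    have h3 := natDegree_C_mul_le (P.eval q / (E r a Finset.univ).eval q) (E r a Finset.univ)
    have h4 := natDegree_sub_le P (C (P.eval q / (E r a Finset.univ).eval q) * E r a Finset.univ)
    rcases le_max_iff.mp h4 with h5 | h5 <;> omega
  have hQ0 := eq_zero_of_dvd_of_natDegree_lt hdvd hdeg
  rw [← hWQ, hQ0, map_zero]

end Gen

end Groth.Agent.H97.Wronsk
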